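import Cfsg.Agent.Lib.NG.Isol
import Cfsg.Agent.Lib.Core.PiSeparable
import Cfsg.Agent.Lib.Core.Frattini
import Cfsg.Agent.Lib.Transfer.Criteria

/-! Strongly real elements in the groups of Thompson's list; `π`-homogeneous groups. -/

set_option autoImplicit false

namespace Cfsg.Lib.NG

open Subgroup Matrix Cfsg.Lib.PSL2 Cfsg.Lib.Core Cfsg.Lib.Transfer
open scoped MatrixGroups

variable {G G' : Type*} [Group G] [Group G'] {r : ℕ} {π : Set ℕ}

/-- Some element of order `r` is inverted by an involution. -/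
def SReal (G : Type*) [Group G] (r : ℕ) : Prop := ∃ x t : G, orderOf x = r ∧ t * t = 1 ∧ t * x * t⁻¹ = x⁻¹

theorem SReal.of_equiv (e : G ≃* G') (h : SReal G' r) : SReal G r := by
  obtain ⟨x, t, h1, h2, h3⟩ := h
  exact ⟨e.symm x, e.symm t, (e.symm.orderOf_eq x).trans h1, by rw [← map_mul, h2, map_one],
    by rw [← map_inv, ← map_mul, ← map_mul, h3, map_inv]⟩

theorem sreal_psl {F : Type*} [Field F] [Finite F] (p : ℕ) [Fact p.Prime] [CharP F p] {g : PSL(2, F)}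
    (h : (orderOf g).Coprime p) : ∃ t, t * t = 1 ∧ t * g * t⁻¹ = g⁻¹ := by
  obtain ⟨a, b, m, hT, hg⟩ := exists_mem_torusL_of_coprime (K := AlgebraicClosure F) p h
  obtain ⟨y, h6, h7⟩ := SetLike.not_le_iff_exists.1 hT.not_dihL_le_torusL
  exact ⟨y, mul_self_dihL hT.ne h6 h7, conj_eq_inv_dihL hT.ne h6 h7 hg⟩

theorem exists_isTorus {F : Type*} [Field F] [Finite F] (M : Sz.Model F G) {m : ℕ} (hm : 1 ≤ m)
    (hF : Nat.card F = 2 ^ (2 * m + 1)) (ht : ∃ t : F, t ≠ 0 ∧ t ≠ 1) {g : G} (h1 : g ≠ 1) (ho : Odd (orderOf g)) :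
    ∃ A n, Sz.IsTorus A n ∧ g ∈ A := by
  rcases M.trichotomy g with ⟨p, hp⟩ | ⟨x, μ, rfl⟩ | h
  · exact absurd hp (M.not_mem_Up_of_odd h1 ho p)
  · exact ⟨_, _, (M.isTorus_H ht).conj x, mem_map_of_mem _ (M.h_mem_H μ)⟩
  · exact ⟨_, _, h.isTorus hm hF, mem_centralizer_singleton_iff.2 rfl⟩

theorem sreal_L33 : SReal SL(3, ZMod 3) 3 :=
  ⟨⟨!![1, 1, 0; 0, 1, 0; 0, 0, 1], by decide⟩, ⟨!![2, 0, 0; 0, 1, 0; 0, 0, 2], by decide⟩,
    orderOf_eq_prime (by decide +kernel) fun h => absurd (congrArg (· 0 1) h) (by decide), by decide +kernel,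
    by decide +kernel⟩

theorem MinList.sreal [Finite G] (h : MinList G) : ∃ r₀, (4 ≤ (Nat.card G).primeFactors.card ∨ r₀ ≠ 3 ∧ 3 ∣ Nat.card G) ∧
    ∀ r, r.Prime → r ≠ 2 → r ≠ r₀ → r ∣ Nat.card G → SReal G r := by
  rcases h with ⟨F, _, _, h, ⟨e⟩⟩ | ⟨F, _, _, m, hm, hF, ⟨M⟩⟩ | ⟨⟨e⟩⟩
  · have := Fact.mk (CharP.char_is_prime F (ringChar F))
    refine ⟨ringChar F, ?_, fun r hr _ h1 h2 => .of_equiv e ?_⟩
    · rw [Nat.card_congr e.toEquiv, primeFactors_psl h.four_le, dvd_card_psl Nat.prime_three]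
      refine (le_or_gt _ _).imp_right fun h3 => ?_
      have h4 := char_dvd_card (F := F) (ringChar F)
      rcases h.three (by omega) with h5 | h5 | h5 | h5 <;> rw [h5] at h4 ⊢ <;>
        exact ⟨fun e => by rw [e] at h4; omega, by norm_num⟩
    · have := Fact.mk hr
      obtain ⟨x, hx⟩ := exists_prime_orderOf_dvd_card' r (Nat.card_congr e.toEquiv ▸ h2)
      obtain ⟨t, ht⟩ := sreal_psl (ringChar F) (g := x) (hx ▸ (Nat.coprime_primes hr Fact.out).2 h1)
      exact ⟨x, t, hx, ht⟩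
  · obtain ⟨h1, ht⟩ := exists_ne_of_prime hm hF
    refine ⟨2, Or.inl (four_le_sz M h1 hF), fun r hr h2 _ h3 => ?_⟩
    have := Fact.mk hr
    obtain ⟨x, hx⟩ := exists_prime_orderOf_dvd_card' r h3
    obtain ⟨A, n, T, h4⟩ := exists_isTorus M h1 hF ht (g := x) (fun e => hr.one_lt.ne (by simp [← hx, e]))
      (hx ▸ hr.odd_of_ne_two h2)
    obtain ⟨z, h5, h6, h7⟩ := M.exists_sq_mem_normalizer T
    exact ⟨x, z, hx, h6, T.inverts h5 h6 h7 h4⟩
  · rw [Nat.card_congr e.toEquiv, card_SL33]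
    refine ⟨13, Or.inr ⟨by norm_num, by norm_num⟩, fun r hr h1 h2 h3 => ?_⟩
    rw [show 5616 = 2 ^ 4 * 3 ^ 3 * 13 from rfl, hr.dvd_mul, hr.dvd_mul] at h3
    rcases h3 with (h3 | h3) | h3
    · exact absurd ((Nat.prime_dvd_prime_iff_eq hr Nat.prime_two).1 (hr.dvd_of_dvd_pow h3)) h1
    · exact (Nat.prime_dvd_prime_iff_eq hr Nat.prime_three).1 (hr.dvd_of_dvd_pow h3) ▸ sreal_L33.of_equiv e
    · exact absurd ((Nat.prime_dvd_prime_iff_eq hr (by norm_num)).1 h3) h2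

theorem MinList.sreal_ne [Finite G] (h : MinList G) {p : ℕ} (hp : p ≠ 3) :
    ∃ r, r.Prime ∧ r ≠ 2 ∧ r ≠ p ∧ SReal G r := by
  obtain ⟨r₀, h1 | h1, h2⟩ := h.sreal
  · obtain ⟨r, h3, h4⟩ := Finset.exists_mem_notMem_of_card_lt_card
      (Finset.card_le_three.trans_lt h1 : ({2, p, r₀} : Finset ℕ).card < _)
    simp only [Finset.mem_insert, Finset.mem_singleton, not_or] at h4
    have h5 := Nat.prime_of_mem_primeFactors h3
    exact ⟨r, h5, h4.1, h4.2.1, h2 r h5 h4.1 h4.2.2 (Nat.dvd_of_mem_primeFactors h3)⟩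
  · exact ⟨3, Nat.prime_three, by norm_num, hp.symm, h2 3 Nat.prime_three (by norm_num) h1.1.symm h1.2⟩

theorem exists_lift_mem [Finite G] (f : G →* G') {H : Subgroup G} {p : ℕ} (hp : p.Prime) {y : G'} (h : y ∈ H.map f)
    (hy : ∃ k, orderOf y = p ^ k) : ∃ x ∈ H, f x = y ∧ ∃ k, orderOf x = p ^ k := by
  obtain ⟨x, h1, h2⟩ := exists_lift (f.subgroupMap_surjective H) hp (y := ⟨y, h⟩) (by simpa using hy)
  exact ⟨x, x.2, congrArg Subtype.val h1, by simpa using h2⟩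

theorem exists_map_eq_pi [Finite G] (N : Subgroup G) [N.Normal] {H : Subgroup (G ⧸ N)} (h : IsPiSubgroup π H) :
    ∃ K : Subgroup G, IsPiSubgroup π K ∧ K.map (QuotientGroup.mk' N) = H := by
  have h0 := map_comap_eq_self_of_surjective (QuotientGroup.mk'_surjective N) H
  obtain ⟨K, -, h1, h2⟩ := exists_supplement_isPiSubgroup (π := π) (N := N) (H := H.comap (QuotientGroup.mk' N))
    le_normalizer_of_normal (by
      conv => enter [2, 1]; rw [← QuotientGroup.ker_mk' N]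
      rwa [relIndex_ker, h0])
  refine ⟨K, h2, ?_⟩
  have h3 := congrArg (map (QuotientGroup.mk' N)) h1
  rwa [Subgroup.map_sup, Subgroup.map_sup, h0, (map_eq_bot_iff N).2 (by simp), bot_sup_eq, bot_sup_eq] at h3

/-- `π'`-elements normalising a `p`-subgroup with `p ∈ π` centralise it. -/
def PiHom (π : Set ℕ) (G : Type*) [Group G] : Prop := ∀ p q : ℕ, p.Prime → q.Prime → p ∈ π → q ∉ π →
  ∀ (Q : Subgroup G) (g : G), IsPGroup p Q → (∃ k, orderOf g = q ^ k) → g ∈ normalizer (Q : Set G) →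
    g ∈ centralizer (Q : Set G)

theorem PiHom.subgroup (h : PiHom π G) (H : Subgroup G) : PiHom π H := fun p q hp hq h1 h2 Q g hQ hg h3 x hx =>
  Subtype.ext (h p q hp hq h1 h2 (Q.map H.subtype) g (hQ.map _) (by simpa using hg)
    (le_normalizer_map _ (mem_map_of_mem _ h3)) x (mem_map_of_mem _ hx))

theorem PiHom.of_surjective [Finite G] (h : PiHom π G) {f : G →* G'} (hf : Function.Surjective f) : PiHom π G' := by
  intro p q hp hq h1 h2 Q g hQ hg h3
  have := Fact.mk hp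
  have := Finite.of_surjective f hf
  obtain ⟨T, -, h4, hT, h5⟩ := exists_sylowIn_ge (IsPGroup.of_bot (p := p)) (bot_le (a := Q.comap f))
  obtain rfl : T.map f = Q := eq_of_not_dvd_relIndex_of_le (fun e => h5 (dvd_trans
    (by rwa [map_comap_eq_self_of_surjective hf]) (relIndex_map_dvd f _ _))) hQ le_rfl (map_le_iff_le_comap.2 h4)
  obtain ⟨y, rfl⟩ := hf g
  obtain ⟨n, ⟨t, ht, e⟩, h6⟩ := frattini_argument h4 hT h5 (le_normalizer_comap f) (k := y) h3
  obtain ⟨x, h7, e', hx⟩ := exists_lift_mem f hq (y := f y)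
    ⟨_, mul_mem (inv_mem (le_normalizer ht)) h6, by simp [e]⟩ hg
  rintro _ ⟨z, hz, rfl⟩
  rw [← e', ← map_mul, h p q hp hq h1 h2 T x hT hx h7 z hz, map_mul]

theorem PiHom.cent [Finite G] (h : PiHom π G) {p : ℕ} (hp : p.Prime) (h1 : p ∈ π) {Q : Subgroup G} (hQ : IsPGroup p Q)
    {g : G} (h2 : g ∈ normalizer (Q : Set G)) (hg : IsPiNumber πᶜ (orderOf g)) : g ∈ centralizer (Q : Set G) := by
  have h3 : (centralizer (Q : Set G)).subgroupOf (zpowers g) = ⊤ := eq_top_of_forall_sylow_le fun q hq =>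
    ⟨default, fun x hx => by
      obtain ⟨k, hk⟩ := exists_orderOf_of_mem (default : Sylow q (zpowers g)).isPGroup' hx
      rcases k with _ | k
      · rw [orderOf_eq_one_iff.1 hk]; exact one_mem _
      · rw [← orderOf_coe] at hk
        exact h p q hp hq.1 h1 (hg q hq.1 (((dvd_pow_self q k.succ_ne_zero).trans hk.symm.dvd).trans
          (orderOf_dvd_of_mem_zpowers x.2))) Q x hQ ⟨_, hk⟩ (zpowers_le.2 h2 x.2)⟩
  exact subgroupOf_eq_top.1 h3 (mem_zpowers g)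

theorem PiHom.hasNormalPComplement [Finite G] (h : PiHom π G) {p : ℕ} [hp : Fact p.Prime] (h1 : p ∈ π)
    (h2 : ∀ r, r.Prime → r ∈ π → r ∣ Nat.card G → r = p) : HasNormalPComplement p G :=
  hasNormalPComplement_iff_normalizer_centralizer.2 fun _ hQ g hg h3 => h.cent hp.1 h1 hQ hg fun r hr h4 h5 =>
    hr.coprime_iff_not_dvd.1 (h2 r hr h5 (h4.trans (orderOf_dvd_natCard g)) ▸ h3).symm h4

theorem PiHom.mem_piCore [Finite G] [Group.IsSolvable G] (h : PiHom π G) {x : G} (hx : IsPiNumber πᶜ (orderOf x)) :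
    x ∈ piCore πᶜ G := by
  have h1 := h.of_surjective (QuotientGroup.mk'_surjective (piCore πᶜ G))
  have h2 := piCore_quotient_piCore πᶜ G
  have h3 := hx.of_dvd (orderOf_map_dvd (QuotientGroup.mk' (piCore πᶜ G)) x)
  rw [← QuotientGroup.eq_one_iff, ← mem_bot, ← h2]
  refine piCoreOf_le_piCore (fittingSubgroup _) (le_piCoreOf_of_isNilpotent inferInstance
    (zpowers_le.2 (centralizer_fittingSubgroup_le ?_)) (by rwa [isPiSubgroup_iff, Nat.card_zpowers]) (mem_zpowers _))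
  rw [← zpowers_le, le_centralizer_iff, fittingSubgroup_eq_iSup_pCore]
  refine iSup_le fun q => ?_
  have := Fact.mk q.2
  by_cases h4 : q.1 ∈ π
  · exact le_centralizer_iff.1 (zpowers_le.2 (h1.cent q.2 h4 (pCore_isPGroup _ _) (le_normalizer_of_normal (mem_top _)) h3))
  · exact (pCore_le_piCore (π := πᶜ) h4).trans (h2.le.trans bot_le)

theorem MinList.not_piHom [Finite G] (h : MinList G) (hG : IsMinimalSimple G) (h2 : 2 ∉ π) {r : ℕ} (hr : r.Prime)
    (h3 : r ∈ π) (h4 : r ∣ Nat.card G) : ¬ PiHom π G := fun hH => by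
  obtain ⟨r₀, -, h5⟩ := h.sreal
  have h6 : ∀ r, r.Prime → r ∈ π → r ∣ Nat.card G → r = r₀ := fun r hr h3 h4 => by_contra fun e => by
    have e2 : r ≠ 2 := fun e => h2 (e ▸ h3)
    obtain ⟨x, t, h6, h7, h8⟩ := h5 r hr e2 e h4
    have := Fact.mk hr
    have h9 := hH.cent hr h3 (isPGroup_zpowers ⟨1, h6.trans (pow_one r).symm⟩)
      (mem_normalizer_zpowers.2 (h8 ▸ inv_mem (mem_zpowers x))) fun q hq e h => h2
        ((Nat.prime_dvd_prime_iff_eq hq Nat.prime_two).1 (e.trans (orderOf_dvd_of_pow_eq_one (sq t ▸ h7))) ▸ h)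
    rw [← h9 x (mem_zpowers x), mul_inv_cancel_right, eq_inv_iff_mul_eq_one, ← sq, ← orderOf_dvd_iff_pow_eq_one, h6] at h8
    exact e2 ((Nat.prime_dvd_prime_iff_eq hr Nat.prime_two).1 h8)
  have := Fact.mk hr
  have := hG.1
  exact not_hasNormalPComplement_of_simple hG.2.1 h4
    (hH.hasNormalPComplement h3 fun s hs e e' => (h6 s hs e e').trans (h6 r hr h3 h4).symm)

/-- The printed form of `π`-homogeneity. -/
theorem piHom_of [Finite G] (h : ∀ H : Subgroup G, H ≠ ⊥ → (∀ p : ℕ, p.Prime → p ∣ Nat.card H → p ∈ π) →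
    ∀ p : ℕ, p.Prime → p ∣ (centralizer (H : Set G)).relIndex (normalizer (H : Set G)) → p ∈ π) : PiHom π G := by
  intro p q hp hq h1 h2 Q g hQ ⟨k, hk⟩ h3
  have := Fact.mk hp
  have := Fact.mk hq
  by_cases h0 : Q = ⊥
  · exact fun x hx => by simp [mem_bot.1 (h0 ▸ hx)]
  · exact le_of_isPiSubgroup_of_index (π := πᶜ) (N := (centralizer (Q : Set G)).subgroupOf (normalizer (Q : Set G)))
      (H := zpowers ⟨g, h3⟩) (isPiSubgroup_of_isPGroup (isPGroup_zpowers ⟨k, by simpa⟩) h2)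
      (by rw [compl_compl]; exact h Q h0 (isPiSubgroup_of_isPGroup hQ h1)) (mem_zpowers _)

end Cfsg.Lib.NG
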