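import Cfsg.Agent.Lib.NG.NotMin
import Cfsg.Agent.Lib.NG.Defs
import Cfsg.Agent.Lib.PF.Main
import Cfsg.Agent.S2060
import Cfsg.Agent.S2119
import Cfsg.Agent.S2126
import Cfsg.Agent.S2601
import Cfsg.Agent.S2602
import Cfsg.Agent.S2603

/-! Insoluble groups with soluble 2-local subgroups modulo the core; the groups of sectional 2-rank at most four. -/

set_option autoImplicit false

namespace Cfsg.Lib.NG

open Subgroup Matrix Cfsg.Lib.PSL2 Cfsg.Lib.Core Cfsg.Lib.Unitary Cfsg.Lib.U3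
open scoped MatrixGroups commutatorElement

variable {G G' X : Type*} [Group G] [Group G'] [Group X] {p k : ℕ}

theorem prank_of_section (h : SectionalPRankLE p k G) {i : X →* G} (hi : Function.Injective i) {f : X →* G'}
    (hf : Function.Surjective f) : PRankLE p k G' :=
  (PGroup.pRankLE_congr (QuotientGroup.quotientKerEquivOfSurjective
    (f.comp (MonoidHom.ofInjective hi).symm.toMonoidHom) (hf.comp (MulEquiv.surjective _)))).1 (h _ _)

theorem sect_of_section (h : SectionalPRankLE p k G) {i : X →* G} (hi : Function.Injective i) {f : X →* G'}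
    (hf : Function.Surjective f) : SectionalPRankLE p k G' := fun K N _ =>
  prank_of_section h (i := i.comp (K.comap f).subtype) (hi.comp (subtype_injective _))
    (f := (QuotientGroup.mk' N).comp (f.subgroupComap K))
    ((QuotientGroup.mk'_surjective N).comp (f.subgroupComap_surjective_of_surjective K hf))

/-- The outer automorphism group is abelian. -/
def OutAb (G : Type*) [Group G] : Prop := ∀ α β : MulAut G, ⁅α, β⁆ ∈ Inn G

theorem OutAb.of_equiv (e : G ≃* G') (h : OutAb G') : OutAb G := fun α β => by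
  obtain ⟨g, hg⟩ := h (MulAut.congr e α) (MulAut.congr e β)
  refine ⟨e.symm g, (MulAut.congr e).injective ?_⟩
  rw [map_commutatorElement, ← hg]
  ext
  simp

theorem outAb_of_comm (h : IsMulCommutative (Out G)) : OutAb G := fun α β => by
  rw [← QuotientGroup.eq_one_iff, ← QuotientGroup.mk'_apply, map_commutatorElement,
    commutatorElement_eq_one_iff_mul_comm]
  exact h.1.1 _ _

theorem outAb_of_card (h : Nat.card (Out G) = 1 ∨ (Nat.card (Out G)).Prime) : OutAb G := by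
  refine outAb_of_comm ?_
  rcases h with h | h
  · have := (Nat.card_eq_one_iff_unique.1 h).1
    infer_instance
  · have := @isCyclic_of_prime_card _ _ _ ⟨h⟩ rfl
    infer_instance

theorem outAb_of_hom [IsCyclic X] (φ : Out G →* X) (h : Nat.card φ.ker ∣ 2) : OutAb G := by
  refine outAb_of_comm (φ.isMulCommutative_of_isCyclic_of_ker_le_center fun a ha => mem_center_iff.2 fun g => ?_)
  have h1 := φ.normal_ker.conj_mem a ha g
  by_cases h2 : a = 1
  · simp [h2]
  · have h3 := (Nat.dvd_prime Nat.prime_two).1 h |>.resolve_left fun e => h2 (mem_bot.1 (card_eq_one.1 e ▸ ha))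
    obtain ⟨b, -, hb⟩ := (Nat.card_eq_two_iff' (1 : φ.ker)).1 h3
    exact mul_inv_eq_iff_eq_mul.1 (congrArg Subtype.val ((hb ⟨_, h1⟩ (by simpa using h2)).trans
      (hb ⟨a, ha⟩ (by simpa using h2)).symm))

theorem outAb_psl {F : Type*} [Field F] [Fintype F] (h : 4 ≤ Fintype.card F) : OutAb PSL(2, F) := by
  obtain ⟨p, -, n, hp, hn⟩ := FiniteField.card' F
  have := Fact.mk hp
  obtain ⟨φ, -, -, h1⟩ := Agent.S2602.result n.2 hn (hn ▸ h)
  exact outAb_of_hom φ (h1 ▸ Nat.gcd_dvd_left _ _)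

theorem outAb_A7 : OutAb (alternatingGroup (Fin 7)) := fun α β => by
  obtain ⟨a, rfl⟩ := (Agent.S2119.result 7 (by norm_num) (by norm_num)).2 α
  obtain ⟨b, rfl⟩ := (Agent.S2119.result 7 (by norm_num) (by norm_num)).2 β
  refine ⟨⟨⁅a, b⁆, by
    rw [Equiv.Perm.mem_alternatingGroup, map_commutatorElement, commutatorElement_eq_one_iff_mul_comm, mul_comm]⟩, ?_⟩
  exact .trans (MulEquiv.ext fun _ => Subtype.ext rfl) (map_commutatorElement MulAut.conjNormal a b)

/-- The simple groups of the list of sectional 2-rank at most four. -/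
def List4 (G : Type*) [Group G] : Prop :=
  (∃ (F : Type) (_ : Field F) (_ : Fintype F), (Odd (Fintype.card F) ∨ Fintype.card F = 8 ∨ Fintype.card F = 16) ∧
      Nonempty (G ≃* PSL(2, F))) ∨
    (∃ (F : Type) (_ : Field F) (_ : Fintype F), Fintype.card F = 3 ∧ Nonempty (G ≃* PSL(3, F))) ∨
    (∃ (F : Type) (_ : Field F) (_ : Fintype F) (q : ℕ), Fintype.card F = q ^ 2 ∧ (q = 3 ∨ q = 4) ∧
      Nonempty (G ≃* PSU 3 F q)) ∨
    Nonempty (G ≃* alternatingGroup (Fin 7)) ∨ (IsSimpleGroup G ∧ (Nat.card G = 29120 ∨ Nat.card G = 7920))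

theorem List4.of_equiv (e : G ≃* G') (h : List4 G') : List4 G := by
  rcases h with ⟨F, _, _, h, ⟨f⟩⟩ | ⟨F, _, _, h, ⟨f⟩⟩ | ⟨F, _, _, q, h, h', ⟨f⟩⟩ | ⟨⟨f⟩⟩ | ⟨_, h⟩
  · exact Or.inl ⟨F, _, _, h, ⟨e.trans f⟩⟩
  · exact Or.inr (Or.inl ⟨F, _, _, h, ⟨e.trans f⟩⟩)
  · exact Or.inr (Or.inr (Or.inl ⟨F, _, _, q, h, h', ⟨e.trans f⟩⟩))
  · exact Or.inr (Or.inr (Or.inr (Or.inl ⟨e.trans f⟩)))
  · exact Or.inr (Or.inr (Or.inr (Or.inr ⟨e.isSimpleGroup, Nat.card_congr e.toEquiv ▸ h⟩)))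

theorem NList.list4 [IsSimpleGroup G] (h : NList G) (h4 : SectionalPRankLE 2 4 G) : OutAb G ∧ List4 G := by
  have h5 : ∀ {X : Type} [Group X], (G ≃* X) → PRankLE 2 4 X := fun e =>
    prank_of_section h4 (i := .id G) Function.injective_id (f := e.toMonoidHom) e.surjective
  rcases h with ⟨F, _, _, h, ⟨e⟩⟩ | ⟨F, _, _, m, hm, hF, ⟨e⟩⟩ | ⟨F, _, _, n, hn, hF, ⟨e⟩⟩ | ⟨F, _, _, hF, ⟨e⟩⟩ |
    ⟨F, _, _, hF, ⟨e⟩⟩ | ⟨⟨e⟩⟩ | ⟨⟨e⟩⟩ | ⟨T, l, z, h, h1⟩
  · refine ⟨(outAb_psl h).of_equiv e, Or.inl ?_⟩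
    obtain ⟨p, _, n, hp, hn⟩ := FiniteField.card' F
    rcases hp.eq_two_or_odd' with rfl | h2
    · have h1 := h5 e (unipL inf) ⟨⟨fun a b => Subtype.ext (toP_injective (by
        simpa using (commute_of_mem_unip a.2 b.2).eq))⟩⟩ fun a ha => toP_injective (by
        simpa using pow_char_of_mem_unip 2 ha)
      rw [card_unipL, Nat.card_eq_fintype_card, hn, Nat.pow_le_pow_iff_right one_lt_two] at h1
      rw [hn, show 4 = 2 ^ 2 from rfl, Nat.pow_le_pow_iff_right one_lt_two] at h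
      rcases (by omega : (n : ℕ) = 2 ∨ (n : ℕ) = 3 ∨ (n : ℕ) = 4) with h | h | h <;> rw [h] at hn
      · have : Fact (Nat.Prime 5) := ⟨by norm_num⟩
        exact ⟨ZMod 5, inferInstance, inferInstance, Or.inl (by decide), ⟨(e.trans (equiv_psl_alt_five (Or.inl
          (Nat.card_eq_fintype_card.trans hn))).some).trans (equiv_psl_alt_five (Or.inr (Nat.card_zmod 5))).some.symm⟩⟩
      · exact ⟨F, _, _, Or.inr (Or.inl hn), ⟨e⟩⟩
      · exact ⟨F, _, _, Or.inr (Or.inr hn), ⟨e⟩⟩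
    · exact ⟨F, _, _, Or.inl (hn ▸ h2.pow), ⟨e⟩⟩
  · let M := Sz.lieModel hF
    have h1 := h5 e M.Z ⟨⟨by
      rintro ⟨_, a, rfl⟩ ⟨_, b, rfl⟩
      exact Subtype.ext (M.u_zero_comm a 0 b)⟩⟩ fun a ha => sq a ▸ (M.mem_Z_iff.1 ha).2
    rw [M.card_Z, Nat.card_eq_fintype_card, hF, Nat.pow_le_pow_iff_right one_lt_two] at h1
    obtain rfl : m = 1 := by omega
    refine ⟨(outAb_of_card (Or.inr ?_)).of_equiv e, Or.inr (Or.inr (Or.inr (Or.inr ⟨‹_›, Or.inl ?_⟩)))⟩
    · rw [Agent.S2126.result hm hF]; norm_num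
    · rw [Nat.card_congr e.toEquiv, M.card_G, Nat.card_eq_fintype_card, hF]; norm_num
  · obtain ⟨σ, b⟩ := exists_isBar hF
    have : Fact (Function.Involutive σ) := ⟨b.invol⟩
    obtain ⟨M, -⟩ := exists_model_PSU b
    have two : (2 : F) = 0 := by_contra fun h => Nat.not_even_iff_odd.2 (two_ne_zero_iff_odd.1 h)
      (b.card ▸ Nat.even_pow.2 ⟨Nat.even_pow.2 ⟨even_two, by omega⟩, two_ne_zero⟩)
    have h1 := prank_of_section h4 (M.map e.symm).uHom_injective
      (f := MonoidHom.mk' (G := Multiplicative F) (fun a => Multiplicative.ofAdd a.x) fun _ _ => rfl)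
      (fun x => ⟨⟨x.toAdd, _, (exists_hs' b x.toAdd).choose_spec⟩, rfl⟩) ⊤ inferInstance fun a _ => by
        rw [← ofAdd_toAdd a, ← ofAdd_nsmul, two_nsmul, ← two_mul, two, zero_mul, ofAdd_zero]
    rw [card_top, Nat.card_congr Multiplicative.toAdd, b.card, ← pow_mul, Nat.pow_le_pow_iff_right one_lt_two] at h1
    obtain rfl : n = 2 := by omega
    obtain ⟨φ, -, -, h2⟩ := Agent.S2603.result (p := 2) (f := 2) (n := 3) one_le_two rfl hF le_rfl (by norm_num)
    exact ⟨(outAb_of_hom φ (h2 ▸ by norm_num)).of_equiv e,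
      Or.inr (Or.inr (Or.inl ⟨F, _, _, 4, hF, Or.inr rfl, ⟨e⟩⟩))⟩
  · obtain ⟨φ, -, -, h2⟩ := Agent.S2601.result (p := 3) (f := 1) (n := 3) le_rfl hF le_rfl
    have : IsCyclic (Multiplicative (ZMod 1 × ZMod 2)) := isCyclic_of_prime_card (p := 2) (by simp)
    exact ⟨(outAb_of_hom φ (h2 ▸ by norm_num)).of_equiv e, Or.inr (Or.inl ⟨F, _, _, hF, ⟨e⟩⟩)⟩
  · obtain ⟨φ, -, -, h2⟩ := Agent.S2603.result (p := 3) (f := 1) (n := 3) (q := 3) le_rfl rfl hF le_rfl (by norm_num)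
    exact ⟨(outAb_of_hom φ (h2 ▸ by norm_num)).of_equiv e,
      Or.inr (Or.inr (Or.inl ⟨F, _, _, 3, hF, Or.inl rfl, ⟨e⟩⟩))⟩
  · exact ⟨outAb_A7.of_equiv e, Or.inr (Or.inr (Or.inr (Or.inl ⟨e⟩)))⟩
  · exact ⟨(outAb_of_card (Or.inl Agent.S2060.result)).of_equiv e, Or.inr (Or.inr (Or.inr (Or.inr
      ⟨‹_›, Or.inr ((Nat.card_congr e.toEquiv).trans Mathieu.card_M11)⟩)))⟩
  · have := prank_of_section h4 (i := .id G) Function.injective_id (f := .id G) Function.surjective_id _ h.ea.1 h.ea.2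
    omega

/-- A group with trivial soluble radical and soluble involution centralisers is almost simple. -/
theorem exists_almost_simple [Finite G] [Nontrivial G] (hR : solvableRadical G = ⊥)
    (h : ∀ t : G, orderOf t = 2 → Group.IsSolvable (centralizer {t})) :
    ∃ S : Subgroup G, S.Normal ∧ IsSimpleGroup S ∧ ¬ IsMulCommutative S ∧ centralizer (S : Set G) = ⊥ := by
  have h1 : ∀ H : Subgroup G, H.IsSubnormal → Group.IsSolvable H → H = ⊥ := fun H h1 h2 =>
    le_bot_iff.1 (hR ▸ le_solvableRadical_of_isSubnormal h1 h2)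
  have h2 : ∀ H K : Subgroup G, H.IsSubnormal → K.IsSubnormal → H ≤ centralizer (K : Set G) → K ≠ ⊥ → H = ⊥ :=
    fun H K hH hK e h0 => by
      obtain ⟨t, h3, h4⟩ := exists_mem_orderOf_eq_prime (H := K) Nat.prime_two (even_iff_two_dvd.1
        (Nat.not_odd_iff_even.1 fun e => h0 (h1 K hK (PF.isSolvable_of_odd K e))))
      exact h1 H hH (solvable_mono (e.trans (centralizer_le (Set.singleton_subset_iff.2 h3))) (h t h4))
  obtain ⟨N, hN⟩ := exists_isMinNormal (G := G)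
  have := (nontrivial_iff_ne_bot N).2 hN.ne_bot
  have := hN.normal
  refine ⟨N, this, ⟨fun M hM => or_iff_not_imp_left.2 fun h0 => ?_⟩,
    fun e => hN.ne_bot (h1 N this.isSubnormal (isSolvable_of_isMulCommutative N)),
    h2 _ N (Normal.isSubnormal inferInstance) this.isSubnormal le_rfl hN.ne_bot⟩
  obtain ⟨M₀, h3, h4⟩ := exists_isMinNormal_le hM h0
  have h5 : ∀ M : Subgroup N, IsMinNormal M → (M.map N.subtype).IsSubnormal ∧ M.map N.subtype ≠ ⊥ := fun M hM =>
    ⟨(subnormalIn_map_subtype.2 hM.normal.isSubnormal).isSubnormal this.isSubnormal,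
      mt (map_eq_bot_iff_of_injective _ N.subtype_injective).1 hM.ne_bot⟩
  have h6 : (M₀.map N.subtype).Normal := ⟨by
    rintro _ ⟨x, hx, rfl⟩ g
    have h6 := h3.map_equiv (MulAut.conjNormal g)
    have h7 : M₀.map (MulAut.conjNormal g : MulAut N).toMonoidHom = M₀ := by_contra fun e => (h5 _ h6).2 (h2 _ _
      (h5 _ h6).1 (h5 _ h3).1 ((map_mono (h6.le_centralizer_of_ne h3 e)).trans (map_centralizer_le_centralizer_image _ _))
      (h5 _ h3).2)
    exact ⟨_, h7.le (mem_map_of_mem _ hx), rfl⟩⟩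
  exact top_le_iff.1 fun x _ => by
    obtain ⟨y, hy, e⟩ := (hN.eq_of_le h6 (h5 _ h3).2 (map_subtype_le _)).ge x.2
    exact Subtype.ext e ▸ h4 hy

theorem OutAb.commutator_eq {S : Subgroup G} [S.Normal] [IsSimpleGroup S] (h : OutAb S) (h1 : ¬ IsMulCommutative S)
    (h2 : centralizer (S : Set G) = ⊥) : _root_.commutator G = S := by
  refine le_antisymm (commutator_le.2 fun a _ b _ => ?_) ?_
  · obtain ⟨s, hs⟩ := h (MulAut.conjNormal a) (MulAut.conjNormal b)
    rw [← map_commutatorElement] at hs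
    have h3 : (s : G)⁻¹ * ⁅a, b⁆ ∈ centralizer (S : Set G) := fun x hx => by
      have := congrArg (fun φ : MulAut S => (φ ⟨x, hx⟩ : G)) hs
      simp only [MulAut.conj_apply, coe_mul, coe_inv, MulAut.conjNormal_apply] at this
      rw [mul_assoc, eq_inv_mul_iff_mul_eq, ← mul_assoc, ← mul_assoc, this, inv_mul_cancel_right]
    rw [h2, mem_bot, inv_mul_eq_one] at h3
    exact h3 ▸ s.2
  · have h3 := ((commutator_normal ⊤ ⊤ : (_root_.commutator S).Normal).eq_bot_or_eq_top).resolve_left fun e =>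
      h1 ⟨⟨fun a b => commutatorElement_eq_one_iff_mul_comm.1 (mem_bot.1 (e ▸ commutator_mem_commutator trivial trivial))⟩⟩
    intro x hx
    exact commutator_mono le_top le_top (map_subtype_commutator S ▸ mem_map_of_mem S.subtype (h3.ge (mem_top (⟨x, hx⟩ : S))))

end Cfsg.Lib.NG
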