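import Cfsg.Agent.Lib.NG.MaxN
import Cfsg.Agent.S4211

/-! Insoluble groups whose non-subnormal `{p, q}`-subgroups have maximal normalisers. -/

set_option autoImplicit false

namespace Cfsg.Lib.NG

open Subgroup Cfsg.Lib.PSL2 Cfsg.Lib.Core
open scoped commutatorElement MatrixGroups

universe u

variable {G T : Type*} [Group G] [Finite G] [Group T] {p q : ℕ}

section PSL
variable {F : Type*} [Field F] [Finite F]

omit [Finite G] in
theorem exists_equiv_psl_or_pgl (hp : (Nat.card F).Prime) (ho : Odd (Nat.card F)) {S : Subgroup G} [S.Normal]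
    (hC : centralizer (S : Set G) = ⊥) (e : S ≃* PSL(2, F)) :
    Nonempty (G ≃* PSL(2, F)) ∨ Nonempty (G ≃* PGL(2, F)) := by
  have := Fact.mk hp
  have := Fintype.ofFinite F
  have h1 : Function.Surjective (GW.pglAut : PGL(2, F) →* _) := fun β => by
    obtain ⟨y, σ, rfl, -⟩ := FGS.aut_decomp β
    obtain rfl : σ = 1 := RingEquiv.ext fun x => by
      obtain ⟨a, rfl⟩ := (ZMod.ringEquivOfPrime F hp Nat.card_eq_fintype_card.symm).surjective x
      obtain ⟨n, rfl⟩ := ZMod.natCast_zmod_surjective a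
      simp
    exact ⟨y, by simp⟩
  let ε := MulEquiv.ofBijective _ ⟨GW.pglAut_injective, h1⟩
  let φ : G →* PGL(2, F) := (ε.symm.toMonoidHom.comp (MulAut.congr e).toMonoidHom).comp MulAut.conjNormal
  have h2 : Function.Injective φ := (ε.symm.injective.comp (MulAut.congr e).injective).comp
    ((injective_iff_map_eq_one _).2 fun g hg => hC.le fun s hs => by
      have := congrArg Subtype.val (DFunLike.congr_fun hg ⟨s, hs⟩)
      exact (mul_inv_eq_iff_eq_mul.1 this).symm)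
  have h3 : pslSub F ≤ φ.range := fun y hy => by
    obtain ⟨s, hs⟩ := (pslEquiv F).surjective ⟨y, hy⟩
    obtain rfl : toP s = y := congrArg Subtype.val hs
    refine ⟨e.symm s, ε.symm_apply_eq.2 (Eq.trans ?_ (GW.pglAut_toP s).symm)⟩
    ext x
    have : MulAut.conjNormal (e.symm s : G) (e.symm x) = e.symm s * e.symm x * (e.symm s)⁻¹ := Subtype.ext rfl
    simp [MulAut.congr, this]
  have h4 := relIndex_mul_index h3
  rw [index_pslSub_of_odd ho] at h4
  rcases Nat.prime_two.eq_one_or_self_of_dvd _ (Dvd.intro_left _ h4) with h | h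
  · exact Or.inr ⟨MulEquiv.ofBijective φ ⟨h2, MonoidHom.range_eq_top.1 (index_eq_one.1 h)⟩⟩
  · exact Or.inl ⟨((MonoidHom.ofInjective h2).trans (MulEquiv.subgroupCongr
      (le_antisymm (relIndex_eq_one.1 (by rw [h] at h4; omega)) h3))).trans (pslEquiv F).symm⟩

theorem not_pm_pgl (hF : Nat.card F = 7 ∨ Nat.card F = 11 ∨ Nat.card F = 13) : ¬ PM PGL(2, F) := fun h => by
  have ho : Odd (Nat.card F) := by rw [Nat.odd_iff]; omega
  rcases hF with hF | hF
  · obtain ⟨t, s, h1, h2, h3⟩ := exists_fourGen_pslSub ho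
    have h4 := h1.four_le_iff.2 ⟨h2, h3⟩
    have h5 := h.eq (H := h1.four) (L := pslSub F) (fun e => h1.ne_one (e.le h1.left_mem))
      (biP_of_dvd Nat.prime_two Nat.prime_two (a := 2) (b := 0) (by rw [h1.isKleinFour.card_four]; norm_num))
      ((normalizer_four_le_pslSub_iff ho h1.isKleinFour h4).2 (by omega))
      fun e => by have := index_pslSub_of_odd ho; rw [e, index_top] at this; omega
    have h6 := card_normalizer_four_pgl ho h1.isKleinFour h4
    rw [← h5, card_pslSub, card_psl_of_eq (n := 168) hF (by norm_num)] at h6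
    omega
  · obtain ⟨a, b, m, hT, h4⟩ := exists_torusPair_four_dvd (K := AlgebraicClosure F) ho
    obtain rfl : m = 12 := by rcases hT.2 with e | e <;> omega
    obtain ⟨g, hg, h1⟩ := hT.exists_orderOf_eq dvd_rfl
    obtain ⟨y, h6, h7⟩ := SetLike.not_le_iff_exists.1 hT.not_dihL_le_torusL
    have h8 := orderOf_dvd_of_pow_eq_one (h.e2 (ρ := g) (t := toP y)
      (by rw [← map_mul, mul_self_dihL hT.ne h6 h7, map_one])
      (conj_eq_inv_of_swapK hT.ne (h6.resolve_left h7) hg) (by rw [h1]; norm_num))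
    rw [h1] at h8
    norm_num at h8

theorem not_pm_psl (hF : Nat.card F = 7 ∨ Nat.card F = 11) : ¬ PM PSL(2, F) := fun h => by
  obtain ⟨a, b, hT⟩ := exists_torusPair_split (F := F) (K := AlgebraicClosure F)
  have h1 := hT.card_torusL_mul
  rw [Nat.gcd_eq_left (by omega)] at h1
  have h2 : torusL F a b ≠ ⊥ := fun e => by rw [e, card_bot] at h1; omega
  have := h _ h2 (biP_of_dvd Nat.prime_three Nat.prime_five (a := 1) (b := 1) (by
    rcases hF with e | e
    · rw [show Nat.card (torusL F a b) = 3 by omega]; norm_num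
    · rw [show Nat.card (torusL F a b) = 5 by omega]; norm_num))
  rw [normalizer_of_le_torusL hT.ne le_rfl h2] at this
  have := hT.ne_of_isCoatom_split this
  omega

end PSL

theorem PM.equiv {G : Type u} [Group G] [Finite G] [Nontrivial G] (h : PM G) (hR : solvableRadical G = ⊥)
    (hl : ∀ (S : Type u) [Group S] [Finite S] [IsSimpleGroup S], ¬ IsMulCommutative S → IsNGroup S → NList S) :
    ∃ (F : Type) (_ : Field F) (_ : Finite F), Nat.card F = 13 ∧ Nonempty (G ≃* PSL(2, F)) := by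
  obtain ⟨S, _, _, h1, h2⟩ := exists_almost_simple hR fun t ht => ng_cent h.isNGroup fun e => by simp [e] at ht
  have hS : Loc S := h.loc hR (subtype_injective S) (by rwa [range_subtype])
  have hloc : ∀ {X : Type} [Group X], (S ≃* X) → Loc X := fun e =>
    h.loc hR (f := S.subtype.comp e.symm.toMonoidHom) ((subtype_injective S).comp e.symm.injective) (by
      rwa [MonoidHom.range_comp, MonoidHom.range_eq_top.2 e.symm.surjective, ← MonoidHom.range_eq_map,
        range_subtype])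
  rcases hl S h1 hS.ng with ⟨F, _, _, h4, ⟨e⟩⟩ | ⟨F, _, _, m, hm, hF, ⟨e⟩⟩ | ⟨F, _, _, n, hn, hF, ⟨e⟩⟩ |
    ⟨F, _, _, hF, ⟨e⟩⟩ | ⟨F, _, _, hF, ⟨e⟩⟩ | ⟨⟨e⟩⟩ | ⟨⟨e⟩⟩ | hT
  · rw [← Nat.card_eq_fintype_card] at h4
    rcases (hloc e).four h4 with h5 | h5
    · have h6 : Nat.card (GaloisField 2 2) = 4 := GaloisField.card 2 2 two_ne_zero
      exact absurd (h6 ▸ (hloc (e.trans ((equiv_psl_alt_five (Or.inr h5)).some.trans
        (equiv_psl_alt_five (Or.inl h6)).some.symm))).prime) (by norm_num)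
    obtain ⟨⟨e'⟩⟩ | ⟨⟨e'⟩⟩ := exists_equiv_psl_or_pgl (hloc e).prime (by rw [Nat.odd_iff]; omega) h2 e
    · refine ⟨F, _, inferInstance, by_contra fun h6 => not_pm_psl (by omega) (h.of_equiv e'), ⟨e'⟩⟩
    · exact absurd (h.of_equiv e') (not_pm_pgl h5)
  · refine absurd (hloc e) (not_loc_sz (Sz.lieModel hF) (by_contra fun e' => ?_))
    have h3 : 2 ^ 3 ≤ 2 ^ (2 * m + 1) := Nat.pow_le_pow_right two_pos (by omega)
    have : Fintype.card F ≤ 2 := by
      classical
      refine (Finset.card_le_card fun t _ => ?_).trans (Finset.card_le_two (a := (0 : F)) (b := 1))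
      by_contra h5
      exact e' ⟨t, by simpa using h5⟩
    omega
  · exact absurd hS.ng (not_isNGroup_U3 hn hF e)
  · exact absurd (hloc (e.trans (equiv_L33 hF).some)) not_loc_L33
  · exact absurd (hloc (e.trans (equiv_SU33 hF).some)) not_loc_SU33
  · exact absurd (hloc e) not_loc_A7
  · exact absurd (hloc e) not_loc_M11
  · exact absurd hS hT.not_loc

/-- The hypothesis. -/
def PN (G : Type*) [Group G] : Prop :=
  ∀ H : Subgroup G, ¬ H.IsSubnormal → BiP H → IsCoatom (normalizer (H : Set G))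

theorem BiP.solvable {H : Subgroup G} (h : BiP H) : Group.IsSolvable H := by
  obtain ⟨p, q, -, -, h⟩ := h
  exact Char.isSolvable_of_forall_prime_dvd H p q h

variable {f : G →* T}

theorem PN.norm (h : PN G) (hf : Function.Surjective f) (hk : f.ker = solvableRadical G)
    (hT : solvableRadical T = ⊥) {H : Subgroup G} (hH : BiP H) (h0 : H.map f ≠ ⊥) :
    IsCoatom (normalizer (H : Set G)) ∧
      (normalizer ((H.map f : Subgroup T) : Set T)).comap f = normalizer (H : Set G) := by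
  have h1 := h H (fun e => h0 ((map_eq_bot_iff H).2 (hk ▸ le_solvableRadical_of_isSubnormal e hH.solvable))) hH
  refine ⟨h1, (h1.le_iff.1 (map_le_iff_le_comap.1 (le_normalizer_map f))).resolve_left fun e => h0 ?_⟩
  refine le_bot_iff.1 (hT ▸ le_solvableRadical (normalizer_eq_top_iff.1 ?_) (isSolvable_map f hH.solvable))
  rw [← map_comap_eq_self_of_surjective hf (normalizer _), e, map_top_of_surjective f hf]

theorem PN.pm (h : PN G) : PM (G ⧸ solvableRadical G) := fun H h0 ⟨p, q, hp, hq, hH⟩ => by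
  obtain ⟨K, h1, rfl⟩ := exists_map_eq_pi (π := {p, q}) _ hH
  have hf := QuotientGroup.mk'_surjective (solvableRadical G)
  obtain ⟨h2, h3⟩ := h.norm hf (QuotientGroup.ker_mk' _) solvableRadical_quotient ⟨p, q, hp, hq, h1⟩ h0
  rw [← map_comap_eq_self_of_surjective hf (normalizer _)]
  exact isCoatom_map_of_ker_le hf (ker_le_comap _ _) (h3 ▸ h2)

theorem eq_top_of_primePow [IsSimpleGroup T] [Finite T] (hp : p.Prime) (hd : p ∣ Nat.card T) {H : Subgroup T}
    (h : ∀ y : T, orderOf y = p → y ∈ H) : H = ⊤ := by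
  have := Fact.mk hp
  obtain ⟨y, hy⟩ := exists_prime_orderOf_dvd_card' p hd
  rcases (normalClosure_normal (s := {y})).eq_bot_or_eq_top with e | e
  · exact absurd (hy ▸ orderOf_eq_one_iff.2 (e.le (subset_normalClosure rfl))) hp.ne_one
  · refine top_le_iff.1 (e ▸ (closure_le H).2 fun z hz => h z ?_)
    obtain ⟨a, rfl, hc⟩ := Group.mem_conjugatesOfSet_iff.1 hz
    obtain ⟨c, rfl⟩ := isConj_iff.1 hc
    exact ((MulAut.conj c).orderOf_eq a).trans hy

theorem le_of_forall_primePow {H K : Subgroup G} (h : ∀ r ∈ H, ∀ q k : ℕ, q.Prime → r ^ q ^ k = 1 → r ∈ K) :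
    H ≤ K := by
  refine relIndex_eq_one.1 (Nat.eq_one_iff_not_exists_prime_dvd.2 fun q hq hd => ?_)
  have := Fact.mk hq
  obtain ⟨Q⟩ : Nonempty (Sylow q H) := inferInstance
  refine Q.not_dvd_index (hd.trans (index_dvd_of_le fun x hx => ?_))
  obtain ⟨k, hk⟩ := Q.2 ⟨x, hx⟩
  exact h x x.2 q k hq (congrArg (fun y : Q.1 => (y.1 : G)) hk)

section Main
set_option linter.unusedSectionVars false
variable {F : Type} [Field F] [Finite F] {f : G →* PSL(2, F)} (hf : Function.Surjective f)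
  (hs : Group.IsSolvable f.ker) (hF : Nat.card F = 13)
  (h : ∀ H : Subgroup G, BiP H → H.map f ≠ ⊥ → ∀ g, f g ∈ normalizer ((H.map f : Subgroup _) : Set PSL(2, F)) →
    g ∈ normalizer (H : Set G)) {K : Subgroup G} (hK : K.map f = ⊤)
include hF h hK

omit hF in
theorem exists_lift_cent {r : G} (hr : r ∈ f.ker) (hq : q.Prime) {k : ℕ} (hk : r ^ q ^ k = 1) (hp : p.Prime)
    (hpq : p ≠ q) {y : PSL(2, F)} (hy : orderOf y = p) :
    ∃ x ∈ K, f x = y ∧ x * r = r * x ∧ ∃ j, orderOf x = p ^ j := by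
  obtain ⟨x, hx, rfl, j, hj⟩ := exists_lift_mem f hp (hK ▸ mem_top y) ⟨1, by rw [hy, pow_one]⟩
  have h1 : zpowers r ≤ normalizer (zpowers x : Set G) := zpowers_le.2 (h _ (biP_of_dvd hp hp (a := j) (b := 0)
    (by simp [hj])) (fun e => hp.ne_one (hy ▸ orderOf_eq_one_iff.2 (e.le ⟨x, mem_zpowers x, rfl⟩))) r
    (MonoidHom.mem_ker.1 hr ▸ one_mem _))
  obtain ⟨n, hn, c, hc, e⟩ := Coprime.exists_commutator_mul_centralizer h1 (by
    rw [Nat.card_zpowers, Nat.card_zpowers, hj]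
    exact Nat.Coprime.coprime_dvd_left (orderOf_dvd_of_pow_eq_one hk)
      (Nat.Coprime.pow _ _ ((Nat.coprime_primes hq hp).2 hpq.symm)))
    (Or.inl (solvable_of_comm inferInstance)) (mem_zpowers x)
  have h2 : f n = 1 := (commutator_mono le_rfl (zpowers_le.2 hr)).trans (commutator_le_right _ _) hn
  refine ⟨c, zpowers_le.2 hx hc.1, by rw [e, map_mul, h2, one_mul], (hc.2 r (mem_zpowers r)).symm, ?_⟩
  exact ((Nat.dvd_prime_pow hp).1 (hj ▸ orderOf_dvd_of_mem_zpowers hc.1)).imp fun _ e => e.2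

theorem exists_prime_ne (q : ℕ) : ∃ p : ℕ, p.Prime ∧ p ≠ q ∧ p ∣ Nat.card PSL(2, F) := by
  rw [card_psl_of_eq (n := 1092) hF (by norm_num)]
  by_cases e : q = 2
  · exact ⟨3, by norm_num, by omega, by norm_num⟩
  · exact ⟨2, by norm_num, by omega, by norm_num⟩

variable (hmin : ∀ L, L.map f = ⊤ → L ≤ K → L = K)
include hmin

theorem cent_ker : f.ker ≤ centralizer (K : Set G) := by
  have := isSimpleGroup_psl (F := F) (by omega)
  refine le_of_forall_primePow fun r hr q k hq hk => ?_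
  obtain ⟨p, hp, hpq, hd⟩ := exists_prime_ne hF h hK q
  have := hmin (K ⊓ centralizer {r}) (eq_top_of_primePow hp hd fun y hy => ?_) inf_le_left
  · exact fun x hx => mem_centralizer_singleton_iff.1 (this.ge hx).2
  · obtain ⟨x, h1, h2, h3, -⟩ := exists_lift_cent h hK hr hq hk hp hpq hy
    exact ⟨x, ⟨h1, mem_centralizer_singleton_iff.2 h3⟩, h2⟩

omit hF h hmin in
theorem exists_mul (g : G) : ∃ x ∈ K, ∃ r ∈ f.ker, g = x * r := by
  obtain ⟨x, hx, e⟩ := hK.ge (mem_top (f g))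
  exact ⟨x, hx, x⁻¹ * g, by simp [MonoidHom.mem_ker, e], by simp⟩

theorem normal_K : K.Normal := ⟨fun n hn g => by
  obtain ⟨x, hx, r, hr, rfl⟩ := exists_mul hK g
  rw [show x * r * n * (x * r)⁻¹ = x * (r * n * r⁻¹) * x⁻¹ by group, ← cent_ker hF h hK hmin hr n hn,
    mul_inv_cancel_right]
  exact mul_mem (mul_mem hx hn) (inv_mem hx)⟩

theorem normal_of_le_ker {H : Subgroup G} (hH : H ≤ f.ker) : H.Normal := by
  refine normalizer_eq_top_iff.1 (eq_top_iff.2 fun g _ => mem_normalizer_fintype fun r hr => ?_)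
  refine (le_of_forall_primePow (K := H.comap (MulAut.conj g).toMonoidHom) fun r hr q k hq hk => ?_) hr
  obtain ⟨x, hx, s, hs, rfl⟩ := exists_mul hK g
  obtain ⟨p, hp, hpq, hd⟩ := exists_prime_ne hF h hK q
  have := Fact.mk hp
  obtain ⟨y, hy⟩ := exists_prime_orderOf_dvd_card' p hd
  obtain ⟨z, -, rfl, h3, j, hj⟩ := exists_lift_cent h hK (hH hr) hq hk hp hpq hy
  have h4 : (z * r) ^ (p ^ j * q ^ k) = 1 := by
    rw [Commute.mul_pow h3, pow_mul, ← hj, pow_orderOf_eq_one, one_pow, mul_comm (orderOf z), pow_mul, hk, one_pow,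
      one_mul]
  obtain ⟨n, hn⟩ := mem_normalizer_zpowers.1 (h (zpowers (z * r)) (biP_of_dvd hp hq
    (Nat.card_zpowers (z * r) ▸ orderOf_dvd_of_pow_eq_one h4)) (fun e => hp.ne_one (hy ▸ orderOf_eq_one_iff.2
      (e.le ⟨z * r, mem_zpowers _, by simp [MonoidHom.mem_ker.1 (hH hr)]⟩))) s (MonoidHom.mem_ker.1 hs ▸ one_mem _))
  have h5 : (z * r) ^ p ^ j = r ^ p ^ j := by rw [Commute.mul_pow h3, ← hj, pow_orderOf_eq_one, one_mul]
  obtain ⟨m, hm⟩ : r ∈ zpowers (r ^ p ^ j) := mem_zpowers_pow_iff.2 (Nat.Coprime.coprime_dvd_right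
    (orderOf_dvd_of_pow_eq_one hk) (Nat.Coprime.pow _ _ ((Nat.coprime_primes hp hq).2 hpq)))
  have h6 : s * r * s⁻¹ = r ^ n := by
    simp only at hm hn
    rw [← hm, ← h5, ← conj_zpow, ← conj_pow, ← hn, ← zpow_natCast, ← zpow_natCast, ← zpow_mul, ← zpow_mul,
      ← zpow_mul, ← zpow_mul]
    congr 1
    ring
  change x * s * r * (x * s)⁻¹ ∈ H
  rw [show x * s * r * (x * s)⁻¹ = x * (s * r * s⁻¹) * x⁻¹ by group, h6,
    cent_ker hF h hK hmin (hH (zpow_mem hr n)) x hx, mul_inv_cancel_right]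
  exact zpow_mem hr n

theorem perfect_K : _root_.commutator K = ⊤ := by
  have := isSimpleGroup_psl (F := F) (by omega)
  refine map_injective K.subtype_injective ?_
  rw [map_subtype_commutator, ← MonoidHom.range_eq_map, range_subtype]
  refine hmin _ ?_ (commutator_le_self K)
  rw [map_commutator, hK]
  exact ((commutator_normal ⊤ ⊤).eq_bot_or_eq_top).resolve_left fun e => not_isSolvable_psl (F := F) (by omega)
    (Group.isSolvable_of_comm fun a b => commutatorElement_eq_one_iff_mul_comm.1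
      (e.le (commutator_mem_commutator (mem_top a) (mem_top b))))

theorem equiv_K : (Nonempty (K ≃* PSL(2, F)) ∨ Nonempty (K ≃* SL(2, F))) ∧ Nat.card ↥(K ⊓ f.ker) ∣ 2 ∧
    Nat.card K = Nat.card ↥(K ⊓ f.ker) * 1092 := by
  have h1 : Function.Surjective (f.comp K.subtype) := MonoidHom.range_eq_top.1 (by
    rwa [MonoidHom.range_comp, range_subtype])
  obtain ⟨ψ, hψ⟩ := exists_onto (Chev.splits_SL_two (F := F) (by omega) (by omega)) toL_surjective h1
    (fun x hx => mem_center_iff.2 fun y => Subtype.ext (cent_ker hF h hK hmin hx y y.2)) (perfect_K hF h hK hmin)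
  have h2 := card_eq_ker_mul h1
  have h3 := Nat.card_le_card_of_surjective _ hψ
  have h4 : Nat.card ↥(K ⊓ f.ker) = Nat.card (f.comp K.subtype).ker := by
    rw [← MonoidHom.comap_ker, comap_subtype, ← inf_subgroupOf_left, Coprime.card_subgroupOf_of_le inf_le_left]
  have h5 : Nat.card SL(2, F) = 2184 := by rw [card_SL2, hF]; norm_num
  rw [card_psl_of_eq (n := 1092) hF (by norm_num)] at h2
  have h6 := Nat.card_pos (α := (f.comp K.subtype).ker)
  rw [h4]
  rcases (by omega : Nat.card (f.comp K.subtype).ker = 1 ∨ Nat.card (f.comp K.subtype).ker = 2) with e | e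
  · exact ⟨Or.inl ⟨MulEquiv.ofBijective _ ⟨(MonoidHom.ker_eq_bot_iff _).1 (card_eq_one.1 e), h1⟩⟩,
      e ▸ one_dvd _, h2⟩
  · exact ⟨Or.inr ⟨(MulEquiv.ofBijective ψ ((Nat.bijective_iff_surjective_and_card ψ).2
      ⟨hψ, by omega⟩)).symm⟩, e.dvd, h2⟩

theorem mem_K_odd {r : G} (hr : r ∈ f.ker) (hp : p.Prime) {k : ℕ} (hk : r ^ p ^ k = 1) {y t : PSL(2, F)}
    (hy : orderOf y = p) (h1 : t ∈ normalizer (zpowers y : Set PSL(2, F))) (h2 : t * y ≠ y * t) : r ∈ K := by
  obtain ⟨x, hx, rfl, j, hj⟩ := exists_lift_mem f hp (hK ▸ mem_top y) ⟨1, by rw [hy, pow_one]⟩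
  obtain ⟨g, hg, rfl⟩ := hK.ge (mem_top t)
  have hc := cent_ker hF h hK hmin hr
  have h3 : Commute x r := hc x hx
  have h4 : f (x * r) = f x := by simp [MonoidHom.mem_ker.1 hr]
  obtain ⟨n, hn⟩ := mem_normalizer_zpowers.1 (h (zpowers (x * r)) (biP_of_isPGroup hp (isPGroup_zpowers (k := j + k)
    (by rw [h3.mul_pow, pow_add, pow_mul, ← hj, pow_orderOf_eq_one, one_pow, mul_comm (orderOf x), pow_mul, hk,
      one_pow, one_mul]))) (fun e => hp.ne_one (hy ▸ orderOf_eq_one_iff.2 (e.le ⟨x * r, mem_zpowers _, h4⟩))) g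
    (by rwa [MonoidHom.map_zpowers, h4]))
  simp only at hn
  have h5 : r ^ (n - 1) ∈ K := by
    have : r ^ (n - 1) = (x ^ n)⁻¹ * (g * x * g⁻¹) := by
      rw [h3.mul_zpow, ← mul_assoc, mul_assoc _ r, ← hc _ (inv_mem hg), ← mul_assoc] at hn
      rw [zpow_sub_one, eq_inv_mul_iff_mul_eq, ← mul_assoc, hn, mul_inv_cancel_right]
    exact this ▸ mul_mem (inv_mem (zpow_mem hx n)) (mul_mem (mul_mem hg hx) (inv_mem hg))
  refine zpowers_le.2 h5 (mem_zpowers_zpow_iff.2 (Nat.Coprime.coprime_dvd_right (orderOf_dvd_of_pow_eq_one hk)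
    (Nat.Coprime.pow_right _ ((hp.coprime_iff_not_dvd.2 fun e => h2 ?_).symm))))
  have h6 : f x ^ (n - 1) = 1 := orderOf_dvd_iff_zpow_eq_one.1 (hy ▸ Int.natCast_dvd.2 e)
  have h7 := congrArg f hn
  rw [map_zpow, h4, map_mul, map_mul, h4, map_inv, show n = n - 1 + 1 by ring, zpow_add_one, h6, one_mul] at h7
  exact (mul_inv_eq_iff_eq_mul.1 h7.symm)

theorem mem_K_two {r : G} (hr : r ∈ f.ker) {k : ℕ} (hk : r ^ 2 ^ k = 1) : r ∈ K := by
  have := normal_K hF h hK hmin
  obtain ⟨t, -, s, -, w, -, hA⟩ := hasA4_psl (F := F) (by rw [hF]; decide)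
  obtain ⟨x, hx, rfl⟩ := hK.ge (mem_top t)
  obtain ⟨g, hg, rfl⟩ := hK.ge (mem_top w)
  have hc := cent_ker hF h hK hmin hr
  have hr' : f r = 1 := hr
  have hy : g * x * g⁻¹ ∈ K := mul_mem (mul_mem hg hx) (inv_mem hg)
  have h1 : f (g * x * g⁻¹) = s := by simpa using hA.conj
  have h1' : f (g * x * g⁻¹) ∈ hA.four.four := by rw [h1]; exact hA.four.right_mem
  let H := closure {x * r, g * x * g⁻¹}
  have h2 : H.map f = hA.four.four := le_antisymm (map_le_iff_le_comap.2 ((closure_le _).2 (by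
      rintro _ (rfl | rfl)
      · simpa [hr'] using hA.four.left_mem
      · exact h1')))
    (hA.four.four_le_iff.2 ⟨⟨x * r, subset_closure (Or.inl rfl), by simp [hr']⟩,
      ⟨_, subset_closure (Or.inr rfl), h1⟩⟩)
  have h3 : IsPGroup 2 ↥(K ⊓ hA.four.four.comap f) := by
    rintro ⟨a, ha, ha'⟩
    obtain ⟨c, hc⟩ := (equiv_K hF h hK hmin).2.1
    have e1 : a * a ∈ K ⊓ f.ker := ⟨mul_mem ha ha, (map_mul f a a).trans (hA.four.mul_self_of_mem ha')⟩
    refine ⟨2, Subtype.ext ?_⟩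
    change a ^ (2 * 2) = 1
    rw [pow_mul, sq a, hc, pow_mul, show (a * a) ^ Nat.card ↥(K ⊓ f.ker) = 1 from
      congrArg Subtype.val (pow_card_eq_one' (x := (⟨_, e1⟩ : ↥(K ⊓ f.ker)))), one_pow]
  have h4 : IsPGroup 2 H := (Inv.isPGroup_sup_of_le_normalizer (isPGroup_zpowers hk) h3 (zpowers_le.2
    (centralizer_le_normalizer _ fun a ha => hc a ha.1))).to_le ((closure_le _).2 (by
      rintro _ (rfl | rfl)
      · exact mul_mem (mem_sup_right ⟨hx, hA.four.left_mem⟩) (mem_sup_left (mem_zpowers r))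
      · exact mem_sup_right ⟨hy, h1'⟩))
  have h5 := (mem_normalizer_iff.1 (h H (biP_of_isPGroup Nat.prime_two h4) (fun e => hA.four.ne_one
    ((h2 ▸ e).le hA.four.left_mem)) g (h2 ▸ hA.mem_normalizer)) _).1 (subset_closure (Or.inl rfl))
  rw [← mul_assoc, mul_assoc _ r, ← hc _ (inv_mem hg), ← mul_assoc,
    H.mul_mem_cancel_left (x := g * x * g⁻¹) (subset_closure (Or.inr rfl))] at h5
  have key : ∀ a ∈ H, ∃ m n : ℤ, (a : G ⧸ K) = (r : G ⧸ K) ^ m ∧ f a = f x ^ m * s ^ n := fun a ha => by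
    have hts : Commute (f x) s := hA.four.comm
    induction ha using closure_induction with
    | mem a ha =>
      rcases ha with rfl | rfl
      · exact ⟨1, 0, by simp [(QuotientGroup.eq_one_iff x).2 hx], by simp [hr']⟩
      · exact ⟨0, 1, by simpa using hx, by simp [← h1]⟩
    | one => exact ⟨0, 0, by simp, by simp⟩
    | mul a b _ _ ha hb =>
      obtain ⟨m, n, e1, e2⟩ := ha
      obtain ⟨m', n', e3, e4⟩ := hb
      refine ⟨m + m', n + n', by rw [QuotientGroup.mk_mul, e1, e3, zpow_add], ?_⟩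
      rw [map_mul, e2, e4, zpow_add, zpow_add, (hts.zpow_zpow m' n).symm.mul_mul_mul_comm]
    | inv a _ ha =>
      obtain ⟨m, n, e1, e2⟩ := ha
      refine ⟨-m, -n, by rw [QuotientGroup.mk_inv, e1, zpow_neg], ?_⟩
      rw [map_inv, e2, zpow_neg, zpow_neg, (hts.zpow_zpow m n).eq, mul_inv_rev]
  obtain ⟨m, n, e1, e2⟩ := key r h5
  have t2 : f x ^ (2 : ℤ) = 1 := by rw [zpow_two, hA.four.sq]
  have s2 : s ^ (2 : ℤ) = 1 := by rw [zpow_two, hA.four.sq']
  rw [hr', zpow_eq_zpow_emod m t2, zpow_eq_zpow_emod n s2] at e2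
  have h6 : m % 2 = 0 := by
    by_contra e
    rw [show m % 2 = 1 by omega, zpow_one] at e2
    rcases (by omega : n % 2 = 0 ∨ n % 2 = 1) with e3 | e3 <;> rw [e3] at e2
    · exact hA.four.ne_one (by simpa using e2.symm)
    · exact hA.four.mul_ne_one (by simpa using e2.symm)
  have h7 : (r : G ⧸ K) ^ (m - 1) = 1 := by rw [zpow_sub_one, ← e1, mul_inv_cancel]
  refine (QuotientGroup.eq_one_iff r).1 (orderOf_eq_one_iff.1 (Nat.eq_one_of_dvd_coprimes
    (Nat.Coprime.pow_left k ((Nat.prime_two.coprime_iff_not_dvd (n := (m - 1).natAbs)).2 (by omega)))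
    (orderOf_dvd_of_pow_eq_one (by rw [← QuotientGroup.mk_pow, hk, QuotientGroup.mk_one]))
    (Int.natCast_dvd.1 (orderOf_dvd_iff_zpow_eq_one.2 h7))))

theorem mem_K {r : G} (hr : r ∈ f.ker) (hp : p.Prime) (hd : p ∣ 1092) {k : ℕ} (hk : r ^ p ^ k = 1) : r ∈ K := by
  by_cases h2 : p = 2
  · exact mem_K_two hF h hK hmin hr (h2 ▸ hk)
  have h13 : Fact (Nat.Prime 13) := ⟨by norm_num⟩
  have := Fintype.ofFinite F
  have : CharP F 13 := charP_of_card_eq_prime (Nat.card_eq_fintype_card.symm.trans hF)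
  by_cases h3 : p = 13
  · obtain ⟨u, hu, u7⟩ := exists_mem_orderOf_eq_prime (H := unipL (inf : P1 F)) h13.1 (by rw [card_unipL, hF])
    have hu' : zpowers u = unipL inf := eq_of_le_of_card_ge (zpowers_le.2 hu)
      (by rw [Nat.card_zpowers, u7, card_unipL, hF])
    obtain ⟨t, h4, h5⟩ := SetLike.not_le_iff_exists.1 fun e : MulAction.stabilizer PSL(2, F) (inf : P1 F) ≤
        unipL inf => by
      have e1 := card_stabilizerL_mul (inf : P1 F)
      have e2 := card_le_of_le e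
      rw [hF, show Nat.gcd 2 (13 - 1) = 2 by norm_num] at e1
      rw [card_unipL] at e2
      omega
    refine mem_K_odd hF h hK hmin hr hp hk (h3 ▸ u7) (t := t) (by rwa [hu', normalizer_unipL]) fun e => h5 ?_
    exact (centralizer_of_mem_unipL hu fun e => by simp [e] at u7).le (mem_centralizer_singleton_iff.2 e)
  have := Fact.mk hp
  obtain ⟨y, hy⟩ := exists_prime_orderOf_dvd_card' (G := PSL(2, F)) p
    (by rwa [card_psl_of_eq (n := 1092) hF (by norm_num)])
  obtain ⟨t, -, h4⟩ := sreal_psl 13 (g := y) (hy ▸ (Nat.coprime_primes hp h13.1).2 h3)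
  refine mem_K_odd hF h hK hmin hr hp hk hy (t := t) (mem_normalizer_zpowers.2 (h4 ▸ inv_mem (mem_zpowers y)))
    fun e => h2 ((Nat.prime_dvd_prime_iff_eq hp Nat.prime_two).1 (hy ▸ orderOf_dvd_of_pow_eq_one ?_))
  rw [e, mul_inv_cancel_right, eq_inv_iff_mul_eq_one] at h4
  rwa [sq]

theorem exists_S : ∃ S : Subgroup G, S.Normal ∧ K ⊓ S = ⊥ ∧ K ⊔ S = ⊤ ∧ IsMulCommutative S ∧
    (Nat.card K).Coprime (Nat.card S) := by
  obtain ⟨-, h1, h2⟩ := equiv_K hF h hK hmin
  have := normal_K hF h hK hmin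
  have h3 : ∀ p : ℕ, p.Prime → p ∣ 1092 → ¬ p ∣ (K ⊓ f.ker).relIndex f.ker := fun p hp hd e => by
    have := Fact.mk hp
    obtain ⟨Q⟩ : Nonempty (Sylow p f.ker) := inferInstance
    refine Q.not_dvd_index (e.trans (index_dvd_of_le fun x hx => ?_))
    obtain ⟨k, hk⟩ := Q.2 ⟨x, hx⟩
    exact ⟨mem_K hF h hK hmin x.2 hp hd (congrArg (fun y : Q.1 => (y.1 : G)) hk), x.2⟩
  have h4 : (2 * 1092).Coprime ((K ⊓ f.ker).relIndex f.ker) := Nat.coprime_of_dvd fun p hp e => h3 p hp
    (((Nat.Prime.dvd_mul hp).1 e).elim (·.trans (by norm_num)) id)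
  obtain ⟨S, h5, h6, h7, h8⟩ := Coprime.exists_complement (M := K ⊓ f.ker) inf_le_right
    (le_top.trans (normalizer_eq_top _).ge) (Nat.Coprime.coprime_dvd_left (h1.mul_right _) h4)
  refine ⟨S, normal_of_le_ker hF h hK hmin h5, ?_, ?_, by_contra fun e => ?_,
    by rw [h8, h2]; exact Nat.Coprime.coprime_dvd_left (Nat.mul_dvd_mul_right h1 _) h4⟩
  · rw [← h6, inf_assoc, inf_eq_right.2 h5]
  · refine eq_top_iff.2 fun g _ => ?_
    obtain ⟨x, hx, r, hr, rfl⟩ := exists_mul hK g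
    exact mul_mem (mem_sup_left hx) (sup_le_sup_right inf_le_left S (h7.ge hr))
  · obtain ⟨Q, -, -, ⟨e⟩, -⟩ := Agent.S4211.result e fun H => by
      have := normal_of_le_ker hF h hK hmin ((map_subtype_le H).trans h5)
      rw [← comap_map_eq_self_of_injective S.subtype_injective H]
      infer_instance
    refine h3 2 Nat.prime_two (by norm_num) (h8 ▸ Dvd.dvd.trans ?_ Q.card_subgroup_dvd_card)
    rw [Nat.card_congr e.toEquiv, Nat.card_eq_fintype_card, QuaternionGroup.card]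
    norm_num

end Main

theorem PN.main {G : Type u} [Group G] [Finite G] (h : PN G) (ns : ¬ Group.IsSolvable G)
    (hl : ∀ (S : Type u) [Group S] [Finite S] [IsSimpleGroup S], ¬ IsMulCommutative S → IsNGroup S → NList S) :
    ∃ (F : Type) (_ : Field F) (_ : Finite F), Nat.card F = 13 ∧ ∃ K S : Subgroup G, K.Normal ∧ S.Normal ∧
      K ⊓ S = ⊥ ∧ K ⊔ S = ⊤ ∧ (Nonempty (K ≃* PSL(2, F)) ∨ Nonempty (K ≃* SL(2, F))) ∧ IsMulCommutative S ∧
      (Nat.card K).Coprime (Nat.card S) := by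
  have : Nontrivial (G ⧸ solvableRadical G) := QuotientGroup.nontrivial_iff.2 (mt solvableRadical_eq_top_iff.1 ns)
  obtain ⟨F, _, _, hF, ⟨e⟩⟩ := h.pm.equiv solvableRadical_quotient hl
  let f := e.toMonoidHom.comp (QuotientGroup.mk' (solvableRadical G))
  have hf : Function.Surjective f := e.surjective.comp (QuotientGroup.mk'_surjective _)
  have hk : f.ker = solvableRadical G := by
    ext x
    exact e.map_eq_one_iff.trans (QuotientGroup.eq_one_iff x)
  have h1 : ∀ H : Subgroup G, BiP H → H.map f ≠ ⊥ → ∀ g,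
      f g ∈ normalizer ((H.map f : Subgroup _) : Set PSL(2, F)) → g ∈ normalizer (H : Set G) :=
    fun H hH h0 g hg => (h.norm hf hk (by
      rw [← map_solvableRadical_equiv e, solvableRadical_quotient, Subgroup.map_bot]) hH h0).2.le hg
  obtain ⟨K, -, hK, hmin⟩ := exists_minimal_le (P := fun K : Subgroup G => K.map f = ⊤) (map_top_of_surjective f hf)
  obtain ⟨S, h2, h3, h4, h5, h6⟩ := exists_S hF h1 hK hmin
  exact ⟨F, _, inferInstance, hF, K, S, normal_K hF h1 hK hmin, h2, h3, h4, (equiv_K hF h1 hK hmin).1, h5, h6⟩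

end Cfsg.Lib.NG
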