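import Cfsg.Agent.Lib.CharDeg.Cd
import Cfsg.Agent.Lib.CharDeg.ClassCount
import Cfsg.Agent.Lib.PF.Main
import Cfsg.Agent.Lib.Transfer.Criteria

/-! Groups whose average irreducible character degree is at most two. -/

set_option autoImplicit false

namespace Cfsg.Lib.NG

open Subgroup Cfsg.Lib.Char Cfsg.Lib.CharDeg Cfsg.Lib.Transfer
open scoped commutatorElement

/-- The average character degree is at most two. -/
def Acd (G : Type*) [Group G] [Finite G] : Prop :=
  ∑ χ : IrrCharacter G, charDegree (χ : G → ℂ) ≤ 2 * Nat.card (IrrCharacter G)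

/-- The total excess of the degrees over two. -/
noncomputable def exc (G : Type*) [Group G] [Finite G] : ℕ :=
  ∑ χ : IrrCharacter G, (charDegree (χ : G → ℂ) - 2)

variable {G G' : Type*} [Group G] [Finite G] [Group G'] [Finite G']

theorem sum_lin : ∑ χ : IrrCharacter G, (if charDegree (χ : G → ℂ) = 1 then 1 else 0) =
    (_root_.commutator G).index := by
  classical
  rw [← card_linear_irr, Finset.sum_boole, Nat.cast_id, Nat.card_eq_fintype_card, Fintype.card_subtype]
  exact congrArg _ (Finset.filter_congr fun χ _ => χ.2.isCharacter.charDegree_eq_one_iff)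

theorem acd_iff : Acd G ↔ exc G ≤ (_root_.commutator G).index := by
  have h : ∑ χ : IrrCharacter G, charDegree (χ : G → ℂ) + (_root_.commutator G).index =
      2 * Nat.card (IrrCharacter G) + exc G := by
    rw [← sum_lin, exc, Nat.card_eq_fintype_card, ← Finset.card_univ, mul_comm, ← smul_eq_mul,
      ← Finset.sum_const, ← Finset.sum_add_distrib, ← Finset.sum_add_distrib]
    refine Finset.sum_congr rfl fun χ _ => ?_
    have := χ.2.charDegree_pos
    split_ifs <;> omega
  rw [Acd]
  omega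

theorem Acd.le (h : Acd G) {n : ℕ} (hn : n ∈ cd G) : n ≤ (_root_.commutator G).index + 2 := by
  obtain ⟨χ, rfl⟩ := mem_cd.1 hn
  have h1 : charDegree (χ : G → ℂ) - 2 ≤ exc G :=
    Finset.single_le_sum (f := fun χ : IrrCharacter G => charDegree (χ : G → ℂ) - 2)
      (fun _ _ => Nat.zero_le _) (Finset.mem_univ χ)
  have := acd_iff.1 h
  omega

theorem card_add_eq : Nat.card G + 3 * (_root_.commutator G).index =
    ∑ χ : IrrCharacter G, (charDegree (χ : G → ℂ) - 2) ^ 2 + 4 * exc G +
      4 * Nat.card (ConjClasses G) := by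
  rw [← sum_lin, exc, ← card_irr_eq_card_conjClasses, Nat.card_eq_fintype_card (α := IrrCharacter G),
    ← Finset.card_univ, mul_comm 4 (Finset.card _), ← smul_eq_mul (Finset.card _),
    ← Finset.sum_const, Finset.mul_sum, Finset.mul_sum, ← sum_charDegree_sq, ← Finset.sum_add_distrib,
    ← Finset.sum_add_distrib, ← Finset.sum_add_distrib]
  refine Finset.sum_congr rfl fun χ _ => ?_
  have := χ.2.charDegree_pos
  split_ifs with h
  · simp [h]
  · obtain ⟨e, he⟩ : ∃ e, charDegree (χ : G → ℂ) = e + 2 := ⟨_, (Nat.sub_add_cancel (by omega)).symm⟩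
    rw [he, Nat.add_sub_cancel]
    ring

theorem Acd.card_le (h : Acd G) {d : ℕ} (hd : ∀ n ∈ cd G, n ≤ d + 2) :
    Nat.card G ≤ (d + 1) * (_root_.commutator G).index + 4 * Nat.card (ConjClasses G) := by
  have h1 : ∑ χ : IrrCharacter G, (charDegree (χ : G → ℂ) - 2) ^ 2 ≤ d * exc G := by
    rw [exc, Finset.mul_sum]
    refine Finset.sum_le_sum fun χ _ => ?_
    have := hd _ (charDegree_mem_cd χ.2)
    rw [sq]
    exact Nat.mul_le_mul_right _ (by omega)
  have h2 := card_add_eq (G := G)
  have h3 := acd_iff.1 h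
  nlinarith

theorem solvable_of_not_four (h : ¬ 4 ∣ Nat.card G) : Group.IsSolvable G := by
  suffices e : HasNormalPComplement 2 G by
    obtain ⟨N, _, h1, h2⟩ := hasNormalPComplement_iff_exists.1 e
    have := h2.isNilpotent
    exact Core.isSolvable_of_normal_quotient N
      (PF.isSolvable_of_odd _ (Nat.coprime_two_right.1 h1)) inferInstance
  by_contra e
  obtain ⟨P⟩ : Nonempty (Sylow 2 G) := inferInstance
  obtain ⟨a, ha⟩ := P.2.exists_card_eq
  obtain ⟨q, i, hq, -, -, h1, h2, h3⟩ := exists_prime_dvd_pow_sub_one P ha e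
  have h4 : a < 2 := by
    by_contra h4
    exact h ((pow_dvd_pow 2 (not_lt.1 h4)).trans (ha ▸ P.1.card_subgroup_dvd_card))
  obtain rfl : i = 1 := by omega
  exact hq.not_dvd_one h3

theorem Acd.solvable_of_perfect (h : Acd G) (hp : _root_.commutator G = ⊤) : Group.IsSolvable G := by
  refine solvable_of_not_four fun h4 => ?_
  have h1 := card_add_eq (G := G)
  have h2 := acd_iff.1 h
  rw [hp, index_top] at h1 h2
  have h3 : ∑ χ : IrrCharacter G, (charDegree (χ : G → ℂ) - 2) ^ 2 = exc G := by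
    refine Finset.sum_congr rfl fun χ _ => ?_
    have := h.le (charDegree_mem_cd χ.2)
    rw [hp, index_top] at this
    obtain e | e : charDegree (χ : G → ℂ) - 2 = 0 ∨ charDegree (χ : G → ℂ) - 2 = 1 := by omega
    all_goals simp [e]
  omega

theorem Acd.of_surjective (h : Acd G) {f : G →* G'} (hf : Function.Surjective f) : Acd G' := by
  classical
  have := finite_hom_units G
  have := finite_hom_units G'
  have := Fintype.ofFinite (G →* ℂˣ)
  let φ : (G →* ℂˣ) × IrrCharacter G' → IrrCharacter G := fun a =>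
    ⟨fun g => (a.1 g : ℂ) * (a.2 : G' → ℂ) (f g), (a.2.2.comp_surjective f hf).hom_mul a.1⟩
  have hd : ∀ a, charDegree (φ a : G → ℂ) = charDegree (a.2 : G' → ℂ) := fun a =>
    charDegree_congr (by simp [φ])
  have hfib : ∀ ψ, (Finset.univ.filter fun a => φ a = ψ).card ≤ (_root_.commutator G').index := by
    intro ψ
    rcases (Finset.univ.filter fun a => φ a = ψ).eq_empty_or_nonempty with e | ⟨b, hb⟩
    · simp [e]
    have key : ∀ a, φ a = ψ → ∃ μ : G' →* ℂˣ, μ.comp f = a.1 * b.1⁻¹ := fun a ha => by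
      have e := ha.trans (Finset.mem_filter.1 hb).2.symm
      refine ⟨f.liftOfSurjective hf ⟨a.1 * b.1⁻¹, fun n hn => ?_⟩, f.liftOfRightInverse_comp _ _ _⟩
      have e1 := congrFun (congrArg Subtype.val e) n
      have e2 := congrFun (congrArg Subtype.val e) 1
      simp only [φ, MonoidHom.mem_ker.1 hn, map_one, Units.val_one, one_mul] at e1 e2
      have e3 : (b.2 : G' → ℂ) 1 ≠ 0 := by
        rw [b.2.2.apply_one_eq]
        exact_mod_cast b.2.2.charDegree_pos.ne'
      rw [e2] at e1
      simp [MonoidHom.mem_ker, Units.ext (mul_right_cancel₀ e3 e1)]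
    rw [← card_hom_units, ← Nat.card_eq_finsetCard]
    refine Nat.card_le_card_of_injective (fun a => (key a.1 (Finset.mem_filter.1 a.2).2).choose)
      fun a c e => ?_
    have e1 : a.1.1 = c.1.1 := mul_right_cancel (b := b.1⁻¹) (by
      rw [← (key a.1 (Finset.mem_filter.1 a.2).2).choose_spec,
        ← (key c.1 (Finset.mem_filter.1 c.2).2).choose_spec]
      exact congrArg (MonoidHom.comp · f) e)
    have e2 := (Finset.mem_filter.1 a.2).2.trans (Finset.mem_filter.1 c.2).2.symm
    refine Subtype.ext (Prod.ext e1 (Subtype.ext (funext fun y => ?_)))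
    obtain ⟨x, rfl⟩ := hf y
    have e3 := congrFun (congrArg Subtype.val e2) x
    simp only [φ, e1] at e3
    exact mul_left_cancel₀ (Units.ne_zero _) e3
  have h1 : (_root_.commutator G).index * exc G' ≤ (_root_.commutator G').index * exc G := by
    calc _ = ∑ a : (G →* ℂˣ) × IrrCharacter G', (charDegree (φ a : G → ℂ) - 2) := by
          simp only [hd, Fintype.sum_prod_type, Finset.sum_const, smul_eq_mul, Finset.card_univ, exc,
            ← card_hom_units, Nat.card_eq_fintype_card]
      _ = ∑ ψ : IrrCharacter G, (Finset.univ.filter fun a => φ a = ψ).card *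
          (charDegree (ψ : G → ℂ) - 2) := by
          rw [← Finset.sum_fiberwise Finset.univ φ]
          refine Finset.sum_congr rfl fun ψ _ => ?_
          rw [Finset.sum_congr rfl fun a ha => by rw [(Finset.mem_filter.1 ha).2], Finset.sum_const,
            smul_eq_mul]
      _ ≤ _ := by
          rw [exc, Finset.mul_sum]
          exact Finset.sum_le_sum fun ψ _ => Nat.mul_le_mul_right _ (hfib ψ)
  have h2 := acd_iff.1 h
  refine acd_iff.2 (Nat.le_of_mul_le_mul_left (h1.trans ?_) (Nat.pos_of_ne_zero index_ne_zero_of_finite))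
  rw [mul_comm]
  exact Nat.mul_le_mul_right _ h2

theorem Acd.of_equiv (h : Acd G) (e : G ≃* G') : Acd G' :=
  h.of_surjective (f := e.toMonoidHom) e.surjective

theorem exists_comm_eq {K : Subgroup G} {g : G} (hg : g ∈ normalizer (K : Set G))
    (h : ∀ a ∈ K, a * g = g * a → a = 1) {k : G} (hk : k ∈ K) : ∃ a ∈ K, ⁅a, g⁆ = k := by
  have hi : Function.Injective fun k : K => (⟨⁅(k : G), g⁆, by
      rw [commutatorElement_def, mul_assoc, mul_assoc, ← mul_assoc g]
      exact K.mul_mem k.2 ((mem_normalizer_iff.1 hg _).1 (K.inv_mem k.2))⟩ : K) := fun a b e => by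
    refine Subtype.ext (inv_mul_eq_one.1 (h ((b : G)⁻¹ * a) (K.mul_mem (K.inv_mem b.2) a.2) ?_)).symm
    have e1 : ⁅(a : G), g⁆ = ⁅(b : G), g⁆ := congrArg Subtype.val e
    simp only [commutatorElement_def, mul_left_inj] at e1
    calc _ = (b : G)⁻¹ * (a * g * (a : G)⁻¹) * a := by group
      _ = _ := by rw [e1]; group
  obtain ⟨a, ha⟩ := Finite.surjective_of_injective hi ⟨k, hk⟩
  exact ⟨a, a.2, congrArg Subtype.val ha⟩

/-- A Frobenius group with abelian kernel. -/
theorem Acd.frob (h : Acd G) (K : Subgroup G) [K.Normal] (hK : ∀ a ∈ K, ∀ b ∈ K, a * b = b * a)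
    (hc : ∀ a ∈ K, a ≠ 1 → ∀ g, a * g = g * a → g ∈ K) :
    (Nat.card K - 1) * (K.index - 2) ≤ K.index ^ 2 := by
  classical
  have := Fintype.ofFinite G
  rcases le_or_gt K.index 2 with h2 | h2
  · simp [Nat.sub_eq_zero_of_le h2]
  obtain ⟨m, hm⟩ : ∃ m, K.index = m + 2 := ⟨_, (Nat.sub_add_cancel h2.le).symm⟩
  obtain ⟨n, hn⟩ : ∃ n, Nat.card K = n + 1 := ⟨_, (Nat.sub_add_cancel Nat.card_pos).symm⟩
  have h3 : K ≤ _root_.commutator G := by
    obtain ⟨g, hg⟩ : ∃ g, g ∉ K := by
      by_contra! e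
      rw [(eq_top_iff' K).2 e, index_top] at h2
      omega
    intro k hk
    obtain ⟨a, -, rfl⟩ := exists_comm_eq (g := g) (by simp [normalizer_eq_top])
      (fun a ha e => by_contra fun e' => hg (hc a ha e' g e)) hk
    exact commutator_mem_commutator (mem_top _) (mem_top _)
  have h4 : (_root_.commutator G).index ≤ m + 2 :=
    hm ▸ Nat.le_of_dvd (Nat.pos_of_ne_zero index_ne_zero_of_finite) (index_dvd_of_le h3)
  have h5 := h.card_le (d := m) fun d hd => hm ▸ le_index_of_comm hK hd
  have h6 : Nat.card G = (n + 1) * (m + 2) := by rw [← hn, ← hm, card_mul_index]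
  have h7 : Nat.card (ConjClasses G) * Nat.card G ≤
      Nat.card G + (n * (n + 1) + (n + 1) * (m + 1) * (m + 2)) := by
    rw [card_conjClasses_mul_card, ← Finset.add_sum_erase _ _ (Finset.mem_univ 1),
      ← Finset.sum_filter_add_sum_filter_not _ (· ∈ K)]
    have hk : (Finset.univ.filter (· ∈ K)).card = n + 1 := by
      rw [← hn, Nat.card_eq_fintype_card, Fintype.card_subtype]
    refine add_le_add (card_le_card_group _) (add_le_add ?_ ?_)
    · refine (Finset.sum_le_card_nsmul _ _ (n + 1) fun x hx => ?_).trans ?_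
      · simp only [Finset.mem_filter, Finset.mem_erase] at hx
        exact hn ▸ card_le_of_le fun g hg => hc x hx.2 hx.1.1 g (mem_centralizer_singleton_iff.1 hg).symm
      · rw [Finset.filter_erase, Finset.card_erase_of_mem (by simp), hk]
        simp
    · refine (Finset.sum_le_card_nsmul _ _ (m + 2) fun x hx => ?_).trans ?_
      · simp only [Finset.mem_filter, Finset.mem_erase] at hx
        rw [← hm, index_eq_card]
        refine Nat.card_le_card_of_injective (fun g => (g.1 : G ⧸ K)) fun a b e => ?_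
        by_contra e'
        have e1 := QuotientGroup.eq.1 e
        refine hx.2 (hc _ e1 (fun e => e' (Subtype.ext (inv_mul_eq_one.1 e))) x ?_)
        exact mem_centralizer_singleton_iff.1 (mul_mem (inv_mem a.2) b.2)
      · have e1 := Finset.card_filter_add_card_filter_not (s := (Finset.univ : Finset G)) (· ∈ K)
        rw [hk, Finset.card_univ, ← Nat.card_eq_fintype_card, h6] at e1
        have e2 : ((Finset.univ.erase (1 : G)).filter fun x => ¬ x ∈ K).card ≤ (n + 1) * (m + 1) :=
          (Finset.card_le_card (Finset.filter_subset_filter _ (Finset.erase_subset _ _))).trans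
            (by nlinarith)
        exact Nat.mul_le_mul_right _ e2
  rw [hn, hm, Nat.add_sub_cancel, Nat.add_sub_cancel]
  rw [h6] at h5 h7
  generalize Nat.card (ConjClasses G) = k at h5 h7
  have h8 : k * (m + 2) ≤ (m + 2) + n + (m + 1) * (m + 2) :=
    Nat.le_of_mul_le_mul_right (c := n + 1) (by nlinarith) (by omega)
  have h9 : (n + 1) * (m + 2) ≤ (m + 1) * (m + 2) + 4 * k := h5.trans (by nlinarith)
  refine Nat.le_of_mul_le_mul_right (c := m + 4) ?_ (by omega)
  nlinarith

theorem Acd.frob_sub {H K : Subgroup G} (h : Acd H) (hKH : K ≤ H) (hN : H ≤ normalizer (K : Set G))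
    (hK : ∀ a ∈ K, ∀ b ∈ K, a * b = b * a) (hc : ∀ a ∈ K, a ≠ 1 → ∀ g ∈ H, a * g = g * a → g ∈ K) :
    (Nat.card K - 1) * (K.relIndex H - 2) ≤ K.relIndex H ^ 2 := by
  have := (normal_subgroupOf_iff_le_normalizer hKH).2 hN
  rw [← Nat.card_congr (subgroupOfEquivOfLe hKH).toEquiv]
  exact h.frob (K.subgroupOf H) (fun a ha b hb => Subtype.ext (hK _ ha _ hb))
    fun a ha h1 g e => hc a ha (fun e' => h1 (Subtype.ext e')) g g.2 (congrArg Subtype.val e)

theorem card_conjClasses_le {f : G →* G'} (hf : Function.Surjective f) :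
    Nat.card (ConjClasses G) ≤ Nat.card f.ker * Nat.card (ConjClasses G') := by
  rw [← Nat.card_prod]
  refine Nat.card_le_card_of_surjective
    (fun a => ConjClasses.mk (a.1.1 * Function.surjInv hf a.2.out)) fun C => ?_
  obtain ⟨g, rfl⟩ := ConjClasses.mk_surjective C
  obtain ⟨c, hc⟩ := isConj_iff.1 (ConjClasses.mk_eq_mk_iff_isConj.1
    (Quotient.out_eq (ConjClasses.mk (f g))).symm)
  obtain ⟨c, rfl⟩ := hf c
  refine ⟨⟨⟨c * g * c⁻¹ * (Function.surjInv hf (ConjClasses.mk (f g)).out)⁻¹, ?_⟩,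
    ConjClasses.mk (f g)⟩, ?_⟩
  · simp [MonoidHom.mem_ker, Function.surjInv_eq hf, ← hc]
  · simp only [inv_mul_cancel_right]
    exact ConjClasses.mk_eq_mk_iff_isConj.2 (isConj_iff.2 ⟨c, rfl⟩).symm

theorem card_conjClasses_S4 : Nat.card (ConjClasses (Equiv.Perm (Fin 4))) = 5 := by
  rw [Nat.card_eq_fintype_card]
  decide +kernel

theorem isSquare_card {A : Type*} [CommGroup A] [Finite A] {α τ : MulAut A} (h1 : τ * τ = 1)
    (h2 : τ * α * τ⁻¹ = α⁻¹) (h3 : Odd (orderOf α)) (h4 : ∀ a, α a = a → a = 1) :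
    IsSquare (Nat.card A) := by
  let X (σ : MulAut A) (e : ℤ) : Subgroup A := σ.toMonoidHom.eqLocus (zpowGroupHom e)
  have hX : ∀ σ e a, a ∈ X σ e ↔ σ a = a ^ e := fun _ _ _ => Iff.rfl
  obtain ⟨k, hk⟩ := h3
  have h5 : α ^ (k + 1) * τ = α * τ * α ^ (k + 1) := by
    have e1 : τ * α ^ (k + 1) = (α ^ (k + 1))⁻¹ * τ := by
      rw [← inv_pow, ← h2, conj_pow, inv_mul_cancel_right]
    have e2 : α ^ (k + 1) * α ^ (k + 1) = α := by
      rw [← pow_add, show k + 1 + (k + 1) = 2 * k + 1 + 1 by ring, pow_succ, ← hk, pow_orderOf_eq_one,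
        one_mul]
    rw [mul_assoc, e1, ← mul_assoc, ← eq_mul_inv_of_mul_eq e2]
  have h6 : ∀ e, Nat.card (X τ e) * Nat.card (X τ e) ≤ Nat.card A := fun e => by
    have e1 : Nat.card (X τ e) ≤ Nat.card (X (α * τ) e) :=
      Nat.card_le_card_of_injective (fun a => ⟨(α ^ (k + 1)) a, (hX _ _ _).2 (by
        rw [← MulAut.mul_apply, ← h5, MulAut.mul_apply, (hX _ _ _).1 a.2, map_zpow])⟩)
        fun a b e => Subtype.ext ((α ^ (k + 1)).injective (congrArg Subtype.val e))
    refine (Nat.mul_le_mul_left _ e1).trans ?_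
    rw [← Nat.card_prod]
    refine Nat.card_le_card_of_injective _ (mul_injective_of_disjoint (disjoint_def.2 fun {a} ha hb => ?_))
    exact τ.injective ((h4 _ (((hX _ _ _).1 hb).trans ((hX _ _ _).1 ha).symm)).trans (map_one τ).symm)
  have h7 : Nat.card A ≤ Nat.card (X τ 1) * Nat.card (X τ (-1)) := by
    let φ : A →* A := τ.toMonoidHom * MonoidHom.id A
    rw [← φ.ker.index_mul_card, index_ker]
    refine Nat.mul_le_mul (card_le_of_le ?_) (card_le_of_le fun a ha => (hX _ _ _).2 ?_)
    · rintro _ ⟨a, rfl⟩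
      rw [hX]
      simp [φ, ← MulAut.mul_apply, h1, mul_comm]
    · simpa using eq_inv_of_mul_eq_one_left ha
  have h8 := h6 1
  have h9 := h6 (-1)
  exact ⟨Nat.card (X τ 1), by nlinarith⟩

end Cfsg.Lib.NG
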