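import Cfsg.Agent.Lib.NG.Acd
import Cfsg.Agent.Lib.NG.Real
import Cfsg.Agent.Lib.Coprime.Gaschutz
import Cfsg.Agent.Lib.Chev.MultSmall
import Cfsg.Agent.Lib.PSL2.SmallIso
import Cfsg.Agent.Lib.Core.MinNormal
import Cfsg.Agent.Lib.Frobenius.Basic

/-! Groups all of whose proper subgroups have average character degree at most two. -/

set_option autoImplicit false

namespace Cfsg.Lib.NG

open Subgroup Matrix Cfsg.Lib.PSL2 Cfsg.Lib.CharDeg Cfsg.Lib.Transfer
open scoped commutatorElement MatrixGroups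

universe u

/-- All proper subgroups have average character degree at most two. -/
def SAcd (G : Type*) [Group G] [Finite G] : Prop := ∀ H : Subgroup G, H ≠ ⊤ → Acd H

variable {G Q : Type*} [Group G] [Finite G] [Group Q] [Finite Q] {f : G →* Q} {p r : ℕ}

theorem SAcd.of_surjective (h : SAcd G) (hf : Function.Surjective f) : SAcd Q := fun H hH =>
  (h (H.comap f) fun e => hH (by rw [← map_comap_eq_self_of_surjective hf H, e, map_top_of_surjective _ hf])).of_surjective
    (f := f.subgroupComap H) (f.subgroupComap_surjective_of_surjective H hf)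

theorem SAcd.solvable (h : SAcd G) (H : Subgroup G) (hH : H ≠ ⊤) : Group.IsSolvable H := by
  induction H using WellFoundedLT.induction with | ind H ih
  by_cases e : ⁅H, H⁆ = H
  · refine (h H hH).solvable_of_perfect (map_injective H.subtype_injective ?_)
    rw [map_subtype_commutator, e, ← MonoidHom.range_eq_map, range_subtype]
  have h1 := lt_of_le_of_ne (commutator_le_self H) e
  have := solvable_equiv (equivMapOfInjective _ _ H.subtype_injective).symm
    (map_subtype_commutator H ▸ ih _ h1 (h1.trans_le le_top).ne)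
  exact Core.isSolvable_of_normal_quotient (_root_.commutator H) this
    (Group.isSolvable_of_comm fun a b => (Abelianization.commGroup H).mul_comm a b)

theorem SAcd.perfect (h : SAcd G) (ns : ¬ Group.IsSolvable G) : _root_.commutator G = ⊤ := by
  by_contra e
  exact ns (Core.isSolvable_of_normal_quotient (_root_.commutator G) (h.solvable _ e)
    (Group.isSolvable_of_comm fun a b => (Abelianization.commGroup G).mul_comm a b))

omit [Finite G] in
theorem ne_top_of_solvable (ns : ¬ Group.IsSolvable G) {H : Subgroup G} (h : Group.IsSolvable H) :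
    H ≠ ⊤ := fun e => ns (solvable_equiv topEquiv (e ▸ h))

omit [Finite G] in
theorem solvable_of_comm {H : Subgroup G} (h : IsMulCommutative H) : Group.IsSolvable H :=
  Group.isSolvable_of_comm h.1.1

theorem commute_of_mem_zpowers {a x y : G} (hr : (orderOf x).Prime) (hy : y ∈ zpowers x) (y1 : y ≠ 1)
    (e : a * y = y * a) : a * x = x * a := by
  have e2 : zpowers y = zpowers x := by
    refine (eq_of_le_of_card_ge (zpowers_le.2 hy) ?_)
    rw [Nat.card_zpowers, Nat.card_zpowers, (hr.eq_one_or_self_of_dvd _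
      (orderOf_dvd_of_mem_zpowers hy)).resolve_left (mt orderOf_eq_one_iff.1 y1)]
  exact (mem_centralizer_singleton_iff.1
    (zpowers_le.2 (mem_centralizer_singleton_iff.2 e.symm) (e2 ▸ mem_zpowers x))).symm

omit [Finite G] in
theorem relIndex_sup_zpowers {W : Subgroup G} {x : G} (hx : x ∈ normalizer (W : Set G))
    (hc : ∀ a ∈ W, a * x = x * a → a = 1) : W.relIndex (W ⊔ zpowers x) = orderOf x := by
  rw [Coprime.relIndex_sup_of_le_normalizer (zpowers_le.2 hx), ← inf_relIndex_right, ← Nat.card_zpowers,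
    ← relIndex_bot_left]
  congr 1
  refine eq_bot_iff.2 fun a ha => hc a ha.1 ?_
  obtain ⟨k, rfl⟩ := ha.2
  exact (Commute.zpow_left rfl k : Commute (x ^ k) x)

theorem frob_arith {n t : ℕ} (hr : r.Prime) (h2 : r ≠ 2) (hn : 1 < n) (ht : n - 1 = r * t)
    (h1 : r * t * (r - 2) ≤ r ^ 2) : n = r + 1 ∨ r = 3 ∧ (n = 7 ∨ n = 10) := by
  have h4 := hr.two_le
  have h5 : r ≠ 4 := fun e => absurd (e ▸ hr) (by norm_num)
  have h6 : t * (r - 2) ≤ r := Nat.le_of_mul_le_mul_left (c := r) (by nlinarith) (by omega)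
  rcases t with _ | _ | t
  · omega
  · omega
  obtain ⟨s, rfl⟩ : ∃ s, r = s + 3 := ⟨r - 3, by omega⟩
  rw [show s + 3 - 2 = s + 1 by omega] at h6
  have h7 : s ≤ 1 := by nlinarith
  obtain rfl : s = 0 := by omega
  omega

theorem sq_arith {n c : ℕ} (hr : r.Prime) (hc : n = c * c)
    (h : n = r + 1 ∨ r = 3 ∧ (n = 7 ∨ n = 10)) : r = 3 ∧ n = 4 := by
  have h8 : r = 3 := by
    rcases h with e | e
    · rcases c with _ | d
      · omega
      have e1 : r = d * (d + 2) := by nlinarith
      rcases (Nat.prime_mul_iff.1 (e1 ▸ hr)) with e2 | e2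
      · omega
      · rw [e1, e2.2]
    · exact e.1
  have h9 : c * c ≤ 10 := by omega
  have h10 : c ≤ 3 := by nlinarith
  interval_cases c <;> omega

/-- A Frobenius subgroup with complement of odd prime order. -/
theorem SAcd.frob_prime (h : SAcd G) (ns : ¬ Group.IsSolvable G) {W : Subgroup G} {x : G}
    (hW : IsMulCommutative W) (hr : (orderOf x).Prime) (h2 : orderOf x ≠ 2) (h0 : W ≠ ⊥)
    (hx : x ∈ normalizer (W : Set G)) (hc : ∀ a ∈ W, a * x = x * a → a = 1) :
    Nat.card W = orderOf x + 1 ∨ orderOf x = 3 ∧ (Nat.card W = 7 ∨ Nat.card W = 10) := by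
  have hx' := zpowers_le.2 hx
  have hW' : ∀ a ∈ W, ∀ b ∈ W, a * b = b * a := fun a ha b hb => setLike_mul_comm ha hb
  have hs : Group.IsSolvable ↥(W ⊔ zpowers x) := by
    rw [sup_comm]
    exact Core.isSolvable_sup hx' (solvable_of_comm inferInstance) (solvable_of_comm hW)
  have h1 := (h _ (ne_top_of_solvable ns hs)).frob_sub le_sup_left
      (sup_le le_normalizer hx') hW' fun a ha a1 g hg e => by
    obtain ⟨w, hw, y, hy, rfl⟩ := (Coprime.mem_sup_left_of_le_normalizer hx').1 hg
    obtain rfl : y = 1 := by_contra fun y1 => a1 (hc a ha (commute_of_mem_zpowers hr hy y1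
      (mul_left_cancel (a := w) (by rw [← mul_assoc, ← mul_assoc, ← e, ← mul_assoc, hW' a ha w hw]))))
    simpa using hw
  obtain ⟨t, ht⟩ := Frobenius.card_dvd_card_sub_one_of_fpf hx' fun y hy y1 => eq_bot_iff.2 fun a ha =>
    hc a ha.1 (commute_of_mem_zpowers hr hy y1 (mem_centralizer_singleton_iff.1 ha.2))
  rw [Nat.card_zpowers] at ht
  rw [relIndex_sup_zpowers hx hc, ht] at h1
  exact frob_arith hr h2 ((one_lt_card_iff_ne_bot W).2 h0) ht h1

section Ext
variable (h : SAcd G) (ns : ¬ Group.IsSolvable G) (hf : Function.Surjective f) (hp : p.Prime)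
  (hV : IsPGroup p f.ker) (hc : IsMulCommutative f.ker) (hn : ¬ f.ker ≤ center G)
include hp hV

omit [Finite Q] in
theorem coprime_ker {x : G} (hr : (orderOf x).Prime) (hrp : orderOf x ≠ p) :
    (Nat.card (zpowers x)).Coprime (Nat.card f.ker) := by
  have : Fact p.Prime := ⟨hp⟩
  obtain ⟨k, hk⟩ := hV.exists_card_eq
  rw [hk, Nat.card_zpowers]
  exact ((Nat.coprime_primes hr hp).2 hrp).pow_right _

omit [Finite G] [Finite Q] in
theorem orderOf_eq_of_lift {x : G} (hr : r.Prime) (hrp : r ≠ p) (h1 : orderOf (f x) = r)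
    (h2 : ∃ k, orderOf x = r ^ k) : orderOf x = r := by
  have : Fact r.Prime := ⟨hr⟩
  obtain ⟨k, hk⟩ := h2
  obtain ⟨j, hj⟩ := hV ⟨x ^ r, by rw [MonoidHom.mem_ker, map_pow, ← h1, pow_orderOf_eq_one]⟩
  refine orderOf_eq_prime (orderOf_eq_one_iff.1 (Nat.eq_one_of_dvd_coprimes
    (Nat.Coprime.pow k j ((Nat.coprime_primes hr hp).2 hrp)) (hk ▸ orderOf_pow_dvd r)
    (orderOf_dvd_of_pow_eq_one (congrArg Subtype.val hj)))) fun e => ?_
  rw [e, map_one, orderOf_one] at h1
  exact hr.one_lt.ne h1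

include h ns hf hc hn

omit [Finite Q] in
theorem SAcd.exists_W {y : Q} (hr : (orderOf y).Prime) (h2 : orderOf y ≠ 2) (hrp : orderOf y ≠ p)
    (hy : ∀ N : Subgroup Q, N.Normal → Group.IsSolvable N → y ∉ N) :
    ∃ (x : G) (W : Subgroup G) (j : ℕ), f x = y ∧ orderOf x = orderOf y ∧ W ≠ ⊥ ∧ W ≤ f.ker ∧
      normalizer (zpowers x : Set G) ≤ normalizer (W : Set G) ∧ (∀ a ∈ W, a * x = x * a → a = 1) ∧
      Nat.card W = p ^ j ∧ (p ^ j = orderOf y + 1 ∨ orderOf y = 3 ∧ (p ^ j = 7 ∨ p ^ j = 10)) := by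
  have : Fact p.Prime := ⟨hp⟩
  obtain ⟨x, rfl, hx⟩ := exists_lift hf hr (y := y) ⟨1, (pow_one _).symm⟩
  replace hx := orderOf_eq_of_lift hp hV hr hrp rfl hx
  rw [← hx] at hr h2 hrp ⊢
  have h1 : ⁅f.ker, zpowers x⁆ ≤ f.ker := commutator_le_left _ _
  obtain ⟨j, hj⟩ := (hV.to_le h1).exists_card_eq
  have h3 : normalizer (zpowers x : Set G) ≤ normalizer ((⁅f.ker, zpowers x⁆ : Subgroup G) : Set G) :=
    Coprime.le_normalizer_commutator (by simp [normalizer_eq_top]) le_rfl
  have h4 : ∀ a ∈ ⁅f.ker, zpowers x⁆, a * x = x * a → a = 1 := fun a ha e =>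
    (Coprime.centralizer_inf_commutator_eq_bot hc (by simp [normalizer_eq_top])
      (coprime_ker hp hV hr hrp)).le ⟨by
        rintro _ ⟨k, rfl⟩
        exact (Commute.zpow_right e k).eq.symm, ha⟩
  have h5 : ⁅f.ker, zpowers x⁆ ≠ ⊥ := fun e => by
    refine hy ((centralizer (f.ker : Set G)).map f) (Normal.map inferInstance f hf)
      (solvable_map f (h.solvable _ fun e => hn (centralizer_eq_top_iff_subset.1 e))) ⟨x, ?_, rfl⟩
    exact commutator_eq_bot_iff_le_centralizer.1 ((commutator_comm _ _).trans e) (mem_zpowers x)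
  exact ⟨x, _, j, rfl, rfl, h5, h1, h3, h4, hj, hj ▸ h.frob_prime ns
    ⟨⟨fun a b => Subtype.ext (setLike_mul_comm (h1 a.2) (h1 b.2))⟩⟩ hr h2 h5
    (h3 (le_normalizer (mem_zpowers x))) h4⟩

open scoped IsMulCommutative in
theorem SAcd.real {y t : Q} (hr : (orderOf y).Prime) (h2 : orderOf y ≠ 2) (hrp : orderOf y ≠ p)
    (hy : ∀ N : Subgroup Q, N.Normal → Group.IsSolvable N → y ∉ N) (ht : t * t = 1)
    (hty : t * y * t⁻¹ = y⁻¹) : orderOf y = 3 ∧ p = 2 := by
  obtain ⟨x, W, j, rfl, hx, -, h1, h3, h4, hj, h5⟩ := h.exists_W ns hf hp hV hc hn hr h2 hrp hy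
  rw [← hx] at hr h2 hrp h5 ⊢
  have h6 : t ∈ (normalizer (zpowers x : Set G)).map f := by
    rw [← Coprime.normalizer_map_of_surjective f hf (coprime_ker hp hV hr hrp)
      (Or.inl (solvable_of_comm inferInstance)), MonoidHom.map_zpowers, mem_normalizer_zpowers, hty]
    exact inv_mem (mem_zpowers _)
  obtain ⟨s, hs, rfl⟩ := h6
  have : IsMulCommutative W := ⟨⟨fun a b => Subtype.ext (setLike_mul_comm (h1 a.2) (h1 b.2))⟩⟩
  have h7 : ∀ g (hg : g ∈ normalizer (W : Set G)), f g = 1 → W.normalizerMonoidHom ⟨g, hg⟩ = 1 :=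
    fun g hg e => MulEquiv.ext fun a => Subtype.ext
      (mul_inv_eq_of_eq_mul (setLike_mul_comm (s := f.ker) e (h1 a.2)))
  have hx' := h3 (le_normalizer (mem_zpowers x))
  obtain ⟨c, hc⟩ := isSquare_card (α := W.normalizerMonoidHom ⟨x, hx'⟩)
    (τ := W.normalizerMonoidHom ⟨s, h3 hs⟩) (by rw [← map_mul]; exact h7 _ _ (by rwa [map_mul]))
    (by
      rw [← map_inv, ← map_mul, ← map_mul, ← mul_eq_one_iff_eq_inv, ← map_mul]
      exact h7 _ _ (by simp [hty]))
    ((hr.odd_of_ne_two h2).of_dvd_nat ((orderOf_map_dvd _ _).trans (orderOf_mk x hx').dvd))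
    fun a e => Subtype.ext (h4 a a.2 (eq_mul_of_mul_inv_eq (congrArg Subtype.val e)).symm)
  obtain ⟨h8, h10⟩ := sq_arith hr (hj ▸ hc) h5
  exact ⟨h8, ((Nat.prime_dvd_prime_iff_eq Nat.prime_two hp).1
    (Nat.prime_two.dvd_of_dvd_pow (h10 ▸ by norm_num : 2 ∣ p ^ j))).symm⟩

omit h ns hf hp hV hc hn [Finite Q] in
theorem not_mem_of_simple [IsSimpleGroup Q] (nq : ¬ Group.IsSolvable Q) {y : Q} (hr : (orderOf y).Prime)
    (N : Subgroup Q) (hN : N.Normal) (hs : Group.IsSolvable N) : y ∉ N := fun hy => by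
  rcases hN.eq_bot_or_eq_top with e | e
  · rw [e, mem_bot] at hy
    exact hr.ne_one (by simp [hy])
  · exact ne_top_of_solvable nq hs e

omit h ns hf hp hV hc hn in
theorem not_pow_eq {j n a b : ℕ} (hp : p.Prime) (ha : a.Prime) (hb : b.Prime) (hab : a ≠ b)
    (h : a * b ∣ n) : p ^ j ≠ n := fun e =>
  hab (((Nat.prime_dvd_prime_iff_eq ha hp).1 (ha.dvd_of_dvd_pow (e ▸ (dvd_mul_right a b).trans h))).trans
    ((Nat.prime_dvd_prime_iff_eq hb hp).1 (hb.dvd_of_dvd_pow (e ▸ (dvd_mul_left b a).trans h))).symm)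

omit h ns hf hp hV hc hn in
theorem eq_of_pow_eq {j k a : ℕ} (hp : p.Prime) (ha : a.Prime) (h : p ^ j = a ^ (k + 1)) : p = a :=
  ((Nat.prime_dvd_prime_iff_eq ha hp).1 (ha.dvd_of_dvd_pow (h ▸ dvd_pow_self a k.succ_ne_zero))).symm

end Ext

section Cases
variable (h : SAcd G) (ns : ¬ Group.IsSolvable G) (hp : p.Prime) {F : Type*} [Field F] [Finite F]
include h ns hp

theorem SAcd.even_cent {f : G →* PSL(2, F)} (hf : Function.Surjective f) (hV : IsPGroup p f.ker)
    (hc : IsMulCommutative f.ker) {a : ℕ} (ha : 2 ≤ a) (hF : Nat.card F = 2 ^ a) : f.ker ≤ center G := by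
  by_contra hn
  have h4 : 4 ≤ Nat.card F := hF ▸ Nat.pow_le_pow_right (n := 2) two_pos ha
  have he : 2 ∣ Nat.card F := hF ▸ dvd_pow_self 2 (by omega)
  have := isSimpleGroup_psl h4
  have := Fintype.ofFinite F
  have : CharP F 2 := charP_of_card_eq_prime_pow (Nat.card_eq_fintype_card.symm.trans hF)
  have key : ∀ r, r.Prime → r ≠ 2 → r ∣ Nat.card F * (Nat.card F - 1) * (Nat.card F + 1) → r ≠ p →
      r = 3 ∧ p = 2 := fun r hr h2 hd hrp => by
    have : Fact r.Prime := ⟨hr⟩
    obtain ⟨y, rfl⟩ := exists_prime_orderOf_dvd_card' r ((dvd_card_psl hr).2 hd)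
    obtain ⟨t, h1, h3⟩ := sreal_psl 2 ((Nat.coprime_primes hr Nat.prime_two).2 h2)
    exact h.real ns hf hp hV hc hn hr h2 hrp (not_mem_of_simple (not_isSolvable_psl h4) hr) h1 h3
  obtain ⟨r, hr, h1⟩ := Nat.exists_prime_and_dvd (n := Nat.card F - 1) (by omega)
  obtain ⟨s, hs, h2⟩ := Nat.exists_prime_and_dvd (n := Nat.card F + 1) (by omega)
  have r2 : r ≠ 2 := by rintro rfl; omega
  have s2 : s ≠ 2 := by rintro rfl; omega
  have rs : r ≠ s := by
    rintro rfl
    have := Nat.dvd_sub h2 h1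
    rw [show Nat.card F + 1 - (Nat.card F - 1) = 2 by omega] at this
    exact r2 ((Nat.prime_dvd_prime_iff_eq hr Nat.prime_two).1 this)
  have h5 := key r hr r2 ((h1.mul_left _).mul_right _)
  have h6 := key s hs s2 (h2.mul_left _)
  omega

theorem SAcd.sl5_cent {f : G →* SL(2, F)} (hf : Function.Surjective f) (hV : IsPGroup p f.ker)
    (hc : IsMulCommutative f.ker) (hF : Nat.card F = 5) : f.ker ≤ center G := by
  by_contra hn
  have := isSimpleGroup_psl (F := F) (by omega)
  have key : ∀ r, r.Prime → r ≠ 2 → r ∣ 120 → r ≠ p →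
      ∃ j, p ^ j = r + 1 ∨ r = 3 ∧ (p ^ j = 7 ∨ p ^ j = 10) := fun r hr h2 hd hrp => by
    have : Fact r.Prime := ⟨hr⟩
    obtain ⟨y, rfl⟩ := exists_prime_orderOf_dvd_card' (G := SL(2, F)) r (by rw [card_SL2, hF]; exact hd)
    obtain ⟨-, -, j, -, -, -, -, -, -, -, e⟩ := h.exists_W ns hf hp hV hc hn hr h2 hrp fun N hN hs hy => by
      rcases (hN.map toL toL_surjective).eq_bot_or_eq_top with e | e
      · have h1 : y ^ 2 = 1 := by
          rcases toL_eq_one_iff.1 (e.le ⟨y, hy, rfl⟩) with rfl | rfl <;> simp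
        exact h2 ((Nat.prime_dvd_prime_iff_eq hr Nat.prime_two).1 (orderOf_dvd_of_pow_eq_one h1))
      · exact ne_top_of_solvable (not_isSolvable_psl (by omega)) (solvable_map _ hs) e
    exact ⟨j, e⟩
  by_cases e : p = 5
  · obtain ⟨j, e1 | ⟨-, e1 | e1⟩⟩ := key 3 (by norm_num) (by norm_num) (by norm_num) (by omega)
    · exact absurd (eq_of_pow_eq (k := 1) hp Nat.prime_two e1) (by omega)
    · exact absurd (eq_of_pow_eq (k := 0) (a := 7) hp (by norm_num) e1) (by omega)
    · exact not_pow_eq (a := 2) (b := 5) hp (by norm_num) (by norm_num) (by norm_num) (by norm_num) e1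
  · obtain ⟨j, e1 | ⟨e1, -⟩⟩ := key 5 (by norm_num) (by norm_num) (by norm_num) (by omega)
    · exact not_pow_eq (a := 2) (b := 3) hp (by norm_num) (by norm_num) (by norm_num) (by norm_num) e1
    · omega

theorem SAcd.seven_cent {f : G →* PSL(2, F)} (hf : Function.Surjective f) (hV : IsPGroup p f.ker)
    (hc : IsMulCommutative f.ker) (hF : Nat.card F = 7) : f.ker ≤ center G := by
  by_contra hn
  have h7 : Fact (Nat.Prime 7) := ⟨by norm_num⟩
  have := isSimpleGroup_psl (F := F) (by omega)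
  have nq := not_isSolvable_psl (F := F) (by omega)
  have := Fintype.ofFinite F
  have : CharP F 7 := charP_of_card_eq_prime (Nat.card_eq_fintype_card.symm.trans hF)
  let z : P1 F := inf
  obtain ⟨y, hy, y3⟩ := Core.exists_mem_orderOf_eq_prime (H := MulAction.stabilizer PSL(2, F) z)
    Nat.prime_three (by
      have := card_stabilizerL_mul z
      rw [hF, show Nat.gcd 2 (7 - 1) = 2 by norm_num] at this
      omega)
  obtain ⟨u, hu, u7⟩ := Core.exists_mem_orderOf_eq_prime (H := unipL z) h7.1 (by rw [card_unipL, hF])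
  have hu' : zpowers u = unipL z := eq_of_le_of_card_ge (zpowers_le.2 hu)
    (by rw [Nat.card_zpowers, u7, card_unipL, hF])
  have p7 : p ≠ 7 := fun e => by
    obtain ⟨t, h1, h3⟩ := sreal_psl 7 (g := y) (by rw [y3]; norm_num)
    have := h.real ns hf hp hV hc hn (y3 ▸ Nat.prime_three) (by omega) (by omega)
      (not_mem_of_simple nq (y3 ▸ Nat.prime_three)) h1 h3
    omega
  obtain ⟨x, W, j, rfl, hx, h0, h1, h3, h4, -, h5⟩ := h.exists_W ns hf hp hV hc hn (u7 ▸ h7.1) (by omega)
    (by omega) (not_mem_of_simple nq (u7 ▸ h7.1))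
  rw [u7] at hx h5
  obtain rfl : p = 2 := eq_of_pow_eq (k := 2) (j := j) hp Nat.prime_two (by omega)
  have h6 : y ∈ (normalizer (zpowers x : Set G)).map f := by
    rwa [← Coprime.normalizer_map_of_surjective f hf (coprime_ker hp hV (hx ▸ h7.1) (by omega))
      (Or.inl (solvable_of_comm inferInstance)), MonoidHom.map_zpowers, hu', normalizer_unipL]
  obtain ⟨s, hs, rfl, h8⟩ := exists_lift_mem f Nat.prime_three h6 ⟨1, y3⟩
  replace h8 := orderOf_eq_of_lift hp hV Nat.prime_three (by norm_num) y3 h8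
  have hx' := h3 (le_normalizer (mem_zpowers x))
  have hW : ∀ a ∈ W, ∀ b ∈ W, a * b = b * a := fun a ha b hb => setLike_mul_comm (h1 ha) (h1 hb)
  set K := W ⊔ zpowers x with hK
  have hs' : zpowers s ≤ normalizer (K : Set G) :=
    Coprime.le_normalizer_sup (zpowers_le.2 (h3 hs)) (zpowers_le.2 hs)
  set H := K ⊔ zpowers s with hH
  have hA : Acd H := h _ fun e => stabilizerL_ne_top z (top_le_iff.1 (by
    rw [← map_top_of_surjective f hf, ← e, map_le_iff_le_comap]
    exact sup_le (sup_le (fun a ha => by simp [mem_comap, MonoidHom.mem_ker.1 (h1 ha)])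
      (zpowers_le.2 (unipL_le_stabilizer z hu))) (zpowers_le.2 hy)))
  have xH : x ∈ H := mem_sup_left (mem_sup_right (mem_zpowers x))
  have h9 : K.subgroupOf H ≤ _root_.commutator H := by
    rw [← map_le_map_iff_of_injective H.subtype_injective, map_subtype_commutator,
      subgroupOf_map_subtype]
    refine inf_le_left.trans (sup_le (fun a ha => ?_) fun a ha => ?_)
    · obtain ⟨b, hb, rfl⟩ := exists_comm_eq hx' h4 ha
      exact commutator_mem_commutator (mem_sup_left (mem_sup_left hb)) xH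
    · obtain ⟨b, hb, rfl⟩ := exists_comm_eq hs (fun b hb e => by_contra fun b1 => by
        have e1 := congrArg f (commute_of_mem_zpowers (hx ▸ h7.1) hb b1 e.symm)
        have e2 : f s ∈ centralizer {f x} := mem_centralizer_singleton_iff.2 (by simpa using e1)
        rw [centralizer_of_mem_unipL hu (fun e => by simp [e] at u7)] at e2
        have := orderOf_dvd_natCard _ e2
        rw [card_unipL, hF, y3] at this
        norm_num at this) ha
      exact commutator_mem_commutator (mem_sup_left (mem_sup_right hb)) (mem_sup_right (mem_zpowers s))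
  have h10 : (_root_.commutator H).index ≤ 3 := by
    refine Nat.le_of_dvd (by norm_num) ((index_dvd_of_le h9).trans ?_)
    rw [← relIndex, hH, Coprime.relIndex_sup_of_le_normalizer hs', ← h8, ← Nat.card_zpowers]
    exact index_dvd_card _
  obtain ⟨n, h11, h12⟩ : ∃ n ∈ cd (K.subgroupOf H), n ≠ 1 := by
    by_contra! e
    obtain ⟨⟨a, ha⟩, a1⟩ := (ne_bot_iff_exists_ne_one).1 h0
    exact a1 (Subtype.ext (h4 a ha (congrArg Subtype.val (comm_subgroup_of_cd e
      ⟨a, mem_sup_left (mem_sup_left ha)⟩ (mem_sup_left ha) ⟨x, xH⟩ (mem_sup_right (mem_zpowers x))))))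
  obtain ⟨m, h13, h14⟩ := exists_le_mem_cd _ h11
  have := hA.le h13
  rw [cd_congr (subgroupOfEquivOfLe le_sup_left)] at h11
  have := (normal_subgroupOf_iff_le_normalizer (le_sup_left : W ≤ K)).2
    (sup_le le_normalizer (zpowers_le.2 hx'))
  have h15 := dvd_index_of_comm (A := W.subgroupOf K) (fun a ha b hb => Subtype.ext (hW _ ha _ hb)) h11
  rw [← relIndex, relIndex_sup_zpowers hx' h4, hx] at h15
  have := (h7.1.eq_one_or_self_of_dvd _ h15).resolve_left h12
  omega

end Cases

theorem exists_onto {S T : Type} [Group S] [Group T] [Finite S] (hs : Chev.Splits S) {σ : S →* T}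
    (hσ : Function.Surjective σ) {f : G →* T} (hf : Function.Surjective f) (hc : f.ker ≤ center G)
    (hp : _root_.commutator G = ⊤) : ∃ ψ : S →* G, Function.Surjective ψ := by
  obtain ⟨Δ, _, _, e, hξ⟩ := Schur.exists_stem_univ (σ := f) ⟨hf, hc, hp ▸ le_top⟩
  obtain ⟨τ, hτ⟩ := hs _ _ (Chev.CExt.pullback ⟨hξ.1, hξ.2.1⟩ σ)
  refine ⟨e.toMonoidHom.comp (((MonoidHom.snd S Δ).comp (Subgroup.subtype _)).comp τ),
    e.surjective.comp (Schur.surjective_of_stem hσ hξ (MonoidHom.ext fun x => ?_))⟩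
  exact (τ x).2.symm.trans (congrArg σ (DFunLike.congr_fun hτ x))

omit [Finite G] [Finite Q] in
theorem card_eq_ker_mul (hf : Function.Surjective f) : Nat.card G = Nat.card f.ker * Nat.card Q := by
  rw [← f.ker.card_mul_index, index_ker, MonoidHom.range_eq_top.2 hf, card_top]

theorem index_commutator_S4 : (_root_.commutator (Equiv.Perm (Fin 4))).index ≤ 2 := by
  refine Nat.le_of_dvd two_pos ((index_dvd_of_le (H := alternatingGroup (Fin 4)) fun g hg => ?_).trans
    (alternatingGroup.index_eq_two).dvd)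
  obtain ⟨a, b, rfl⟩ := (by decide +kernel : ∀ g : Equiv.Perm (Fin 4), Equiv.Perm.sign g = 1 →
    ∃ a b, g = a * b * a⁻¹ * b⁻¹) g hg
  exact commutator_mem_commutator (mem_top a) (mem_top b)

theorem SAcd.seven_inj (h : SAcd G) (ns : ¬ Group.IsSolvable G) {F : Type} [Field F] [Finite F]
    {f : G →* PSL(2, F)} (hf : Function.Surjective f) (hc : f.ker ≤ center G) (hF : Nat.card F = 7) :
    f.ker = ⊥ := by
  by_contra h0
  obtain ⟨ψ, hψ⟩ := exists_onto (Chev.splits_SL_two (F := F) (by omega) (by omega)) toL_surjective hf hc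
    (h.perfect ns)
  have h1 := Nat.card_le_card_of_surjective _ hψ
  have h2 := card_eq_ker_mul hf
  rw [card_psl_of_eq (n := 168) hF (by norm_num)] at h2
  rw [card_SL2, hF] at h1
  have h3 := (one_lt_card_iff_ne_bot _).2 h0
  have h4 : Nat.card f.ker = 2 := by omega
  obtain ⟨V, hV⟩ := exists_four_psl (F := F) (by rw [hF]; decide)
  obtain ⟨e⟩ := equiv_normalizer_four_psl_perm (by omega) hV
  set N := normalizer (V : Set PSL(2, F))
  have hN : Nat.card N = 24 := by rw [Nat.card_congr e.toEquiv, Nat.card_perm]; simp [Nat.factorial]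
  let g := e.toMonoidHom.comp (f.subgroupComap N)
  have hg : Function.Surjective g := e.surjective.comp (f.subgroupComap_surjective_of_surjective N hf)
  have hk : g.ker = f.ker.subgroupOf (N.comap f) := by
    ext x
    exact e.map_eq_one_iff.trans Subtype.ext_iff
  have h5 : f.ker ≤ N.comap f := ker_le_comap _ _
  have h6 : Nat.card g.ker = 2 := by rw [hk, Nat.card_congr (subgroupOfEquivOfLe h5).toEquiv, h4]
  have h7 := card_eq_ker_mul hg
  rw [h6, ← Nat.card_congr e.toEquiv, hN] at h7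
  obtain ⟨P, hP⟩ := Sylow.exists_subgroup_card_pow_prime 2 (n := 4) (G := N.comap f) (by rw [h7]; norm_num)
  have h8 : Nat.card (P.map (N.comap f).subtype) = 2 ^ 4 := by rw [card_map_of_injective (subtype_injective _), hP]
  let S : Sylow 2 G := (IsPGroup.of_card h8).toSylow (by
    have := (P.map (N.comap f).subtype).card_mul_index
    rw [h8, h2, h4] at this
    omega)
  have h9 : g.ker ≤ _root_.commutator (N.comap f) := by
    rw [hk, ← map_le_map_iff_of_injective (subtype_injective _), map_subtype_commutator,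
      subgroupOf_map_subtype]
    refine inf_le_left.trans ((le_inf (le_inf hc (h.perfect ns ▸ le_top)) ((IsPGroup.of_card
      (n := 1) h4).le_sylow_of_normal S)).trans ((center_inf_commutator_inf_sylow_le S).trans ?_))
    exact commutator_mono (map_subtype_le P) (map_subtype_le P)
  have h10 : (_root_.commutator (N.comap f)).index ≤ 2 := by
    rw [← index_map_eq _ hg h9, map_commutator_eq, MonoidHom.range_eq_top.2 hg]
    exact index_commutator_S4
  have hA := h (N.comap f) fun e => by rw [e, card_top] at h7; omega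
  have h11 := hA.card_le (d := 2) fun n hn => (hA.le hn).trans (by omega)
  have h12 := card_conjClasses_le hg
  rw [h6, card_conjClasses_S4] at h12
  omega

/-- The groups allowed in the conclusion. -/
def AcdList (G : Type*) [Group G] : Prop :=
  Nonempty (G ≃* PSL(2, ZMod 7)) ∨ (∃ (F : Type) (_ : Field F) (_ : Fintype F) (q : ℕ), q.Prime ∧
    Fintype.card F = 2 ^ q ∧ Nonempty (G ≃* PSL(2, F))) ∨ Nonempty (G ≃* SL(2, ZMod 5))

theorem SAcd.torus (h : SAcd G) (hG : IsMinimalSimple G) {A : Subgroup G} (h0 : A ≠ ⊥)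
    (hA : ∀ a ∈ A, a ≠ 1 → centralizer {a} = A) {m : ℕ}
    (hm : Nat.card (normalizer (A : Set G)) = m * Nat.card A) : (Nat.card A - 1) * (m - 2) ≤ m ^ 2 := by
  have h1 : ∀ a ∈ A, ∀ b ∈ A, a * b = b * a := fun a ha b hb => by
    by_cases e : a = 1
    · simp [e]
    · exact (mem_centralizer_singleton_iff.1 ((hA a ha e).ge hb)).symm
  have h2 : A.relIndex (normalizer (A : Set G)) = m := Nat.eq_of_mul_eq_mul_left Nat.card_pos (by
    rw [mul_comm _ m, ← hm, ← Nat.card_congr (subgroupOfEquivOfLe le_normalizer).toEquiv]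
    exact card_mul_index _)
  exact h2 ▸ (h _ (min_norm_ne hG (Group.isSolvable_of_comm fun a b => Subtype.ext
    (h1 _ a.2 _ b.2)) h0)).frob_sub le_normalizer le_rfl h1 fun a ha a1 g _ e =>
      (hA a ha a1).le (mem_centralizer_singleton_iff.2 e.symm)

theorem not_sacd_L33 (ns : ¬ Group.IsSolvable SL(3, ZMod 3)) : ¬ SAcd SL(3, ZMod 3) := fun h => by
  have : Fact (Nat.Prime 13) := ⟨by norm_num⟩
  let x : SL(3, ZMod 3) := ⟨!![0, 0, 1; 1, 0, 1; 0, 1, 0], by decide⟩
  let y : SL(3, ZMod 3) := ⟨!![1, 1, 1; 0, 1, 2; 0, 0, 1], by decide⟩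
  have hx : orderOf x = 13 :=
    orderOf_eq_prime (by decide +kernel) fun h => absurd (congrArg (· 0 0) h) (by decide)
  have hy : orderOf y = 3 :=
    orderOf_eq_prime (by decide +kernel) fun h => absurd (congrArg (· 0 1) h) (by decide)
  have := h.frob_prime ns (W := zpowers x) (x := y) inferInstance (by rw [hy]; norm_num) (by omega)
    (fun e => by simp [zpowers_eq_bot.1 e] at hx) (mem_normalizer_zpowers.2 ⟨(3 : ℕ), by
      simp only [zpow_natCast]
      exact eq_mul_inv_of_mul_eq (by decide +kernel)⟩) fun a ha e => by_contra fun a1 =>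
    absurd (commute_of_mem_zpowers (hx ▸ this.1) ha a1 e.symm) (by decide +kernel)
  rw [Nat.card_zpowers] at this
  omega

theorem SAcd.of_minList (h : SAcd G) (hG : IsMinimalSimple G) (hm : MinList G) : AcdList G := by
  rcases hm with ⟨F, _, _, hq, ⟨e⟩⟩ | ⟨F, _, _, m, hm, hF, ⟨M⟩⟩ | ⟨⟨e⟩⟩
  · by_cases h7 : Nat.card F = 7
    · have : Fact (Nat.Prime 7) := ⟨by norm_num⟩
      exact Or.inl ⟨e.trans (Linear.congrPSL (.refl _) (FiniteField.ringEquivOfCardEq
        ((Nat.card_eq_fintype_card.symm.trans h7).trans (ZMod.card 7).symm)))⟩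
    obtain ⟨r, hr, h1⟩ | h1 : (∃ r : ℕ, r.Prime ∧ Nat.card F = 2 ^ r) ∨
        Nat.card F % 2 = 1 ∧ 11 ≤ Nat.card F := by
      rcases hq with hq | ⟨r, hr, h2, hq⟩ | hq
      · exact Or.inl hq
      · obtain ⟨k, hk⟩ := three_pow_odd hr h2
        omega
      · have := hq.1.eq_two_or_odd
        omega
    · exact Or.inr (Or.inl ⟨F, _, _, r, hr, Nat.card_eq_fintype_card.symm.trans h1, ⟨e⟩⟩)
    obtain ⟨k, hk⟩ : ∃ k, Nat.card F = 2 * k + 11 := ⟨(Nat.card F - 11) / 2, by omega⟩
    have h2 := card_stabilizerL_mul (inf : P1 F)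
    have := (h.of_surjective (f := e.toMonoidHom) e.surjective).torus (min_equiv hG e) (unipL_ne_bot inf)
      (fun a ha a1 => centralizer_of_mem_unipL ha a1) (m := k + 5) (by
        rw [Nat.gcd_eq_left (by omega), hk, show 2 * k + 11 - 1 = 2 * (k + 5) by omega] at h2
        rw [normalizer_unipL, card_unipL, hk]
        linarith)
    rw [card_unipL, hk, show 2 * k + 11 - 1 = 2 * k + 10 by omega, show k + 5 - 2 = k + 3 by omega] at this
    nlinarith
  · obtain ⟨h1, ht⟩ := exists_ne_of_prime hm hF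
    obtain ⟨g, -, hg, -, h2, -⟩ := M.exists_tori h1 hF
    have T := hg.isTorus h1 hF
    have := h.torus hG T.ne_bot T.cent T.card_norm
    have h3 : 2 ^ 3 ≤ 2 ^ (2 * m + 1) := Nat.pow_le_pow_right two_pos (by omega)
    have h4 : 0 < 2 ^ (m + 1) := by positivity
    omega
  · exact absurd (h.of_surjective (f := e.toMonoidHom) e.surjective)
      (not_sacd_L33 (min_nsol (min_equiv hG e)))

theorem SAcd.step (h : SAcd G) (ns : ¬ Group.IsSolvable G) {N : Subgroup G} [N.Normal]
    (hN : Core.IsMinNormal N) (hs : Group.IsSolvable N) (hq : AcdList (G ⧸ N)) : AcdList G := by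
  obtain ⟨p, hp, hE⟩ := hN.isElementaryAbelian hs
  have hk : ∀ {T : Type} [Group T] (e : G ⧸ N ≃* T),
      (e.toMonoidHom.comp (QuotientGroup.mk' N)).ker = N := fun e => by
    ext x
    exact e.map_eq_one_iff.trans (QuotientGroup.eq_one_iff x)
  have hf : ∀ {T : Type} [Group T] (e : G ⧸ N ≃* T),
      Function.Surjective (e.toMonoidHom.comp (QuotientGroup.mk' N)) := fun e =>
    e.surjective.comp (QuotientGroup.mk'_surjective N)
  have hV := Core.isPGroup_of_isElementaryAbelian hE
  have h0 := (one_lt_card_iff_ne_bot N).2 hN.ne_bot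
  have : Fact (Nat.Prime 5) := ⟨by norm_num⟩
  have h5 := Chev.splits_SL_two (F := ZMod 5) (by simp) (by simp)
  have c5 : Nat.card SL(2, ZMod 5) = 120 := by rw [card_SL2]; simp
  rcases hq with ⟨⟨e⟩⟩ | ⟨F, _, _, a, ha, hF, ⟨e⟩⟩ | ⟨⟨e⟩⟩
  · have : Fact (Nat.Prime 7) := ⟨by norm_num⟩
    exact absurd ((hk e).symm.trans (h.seven_inj ns (hf e) (h.seven_cent ns hp (hf e) ((hk e).symm ▸ hV)
      ((hk e).symm ▸ hE.1) (by simp)) (by simp))) hN.ne_bot
  · rw [← Nat.card_eq_fintype_card] at hF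
    have hc := h.even_cent ns hp (hf e) ((hk e).symm ▸ hV) ((hk e).symm ▸ hE.1) ha.two_le hF
    rcases ha.two_le.eq_or_lt with rfl | h3
    · let e' := e.trans ((equiv_psl_alt_five (Or.inl hF)).some.trans
        (equiv_psl_alt_five (Or.inr (Nat.card_zmod 5))).some.symm)
      obtain ⟨ψ, hψ⟩ := exists_onto h5 toL_surjective (hf e') ((hk e').trans (hk e).symm ▸ hc) (h.perfect ns)
      have h1 := card_eq_ker_mul (hf e')
      rw [hk, card_psl_of_eq (n := 60) (Nat.card_zmod 5) (by norm_num)] at h1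
      exact Or.inr (Or.inr ⟨(MulEquiv.ofBijective ψ ((Nat.bijective_iff_surjective_and_card ψ).2
        ⟨hψ, le_antisymm (by omega) (Nat.card_le_card_of_surjective _ hψ)⟩)).symm⟩)
    · have h4 : 2 ^ 3 ≤ Nat.card F := hF ▸ Nat.pow_le_pow_right two_pos h3
      have h6 : 2 ∣ Nat.card F := hF ▸ dvd_pow_self 2 (by omega)
      obtain ⟨ψ, hψ⟩ := exists_onto (Chev.splits_SL_two (F := F) (by omega) (by omega)) toL_surjective
        (hf e) hc (h.perfect ns)
      have h1 := card_eq_ker_mul (hf e)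
      rw [hk, ← Nat.card_congr (equiv_sl_psl_of_even (F := F) (by rw [Nat.odd_iff]; omega)).some.toEquiv] at h1
      have := Nat.card_le_card_of_surjective _ hψ
      nlinarith [Nat.card_pos (α := SL(2, F))]
  · obtain ⟨ψ, hψ⟩ := exists_onto h5 (σ := .id _) Function.surjective_id (hf e) (h.sl5_cent ns hp (hf e)
      ((hk e).symm ▸ hV) ((hk e).symm ▸ hE.1) (by simp)) (h.perfect ns)
    have h1 := card_eq_ker_mul (hf e)
    rw [hk, c5] at h1
    have := Nat.card_le_card_of_surjective _ hψ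
    omega

theorem acdList_of (hm : ∀ (G : Type u) [Group G] [Finite G], IsMinimalSimple G → MinList G)
    (G : Type u) [Group G] [Finite G] : SAcd G → ¬ Group.IsSolvable G → AcdList G := by
  refine Core.induction_on_isMinNormal (P := fun G _ _ => SAcd G → ¬ Group.IsSolvable G → AcdList G) G
    (fun G _ _ _ _ ns => (ns inferInstance).elim) fun G _ _ N _ hN ih h ns => ?_
  by_cases e : N = ⊤
  · have : Nontrivial G := by_contra fun e => ns (by rw [not_nontrivial_iff_subsingleton] at e; infer_instance)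
    have hG : IsMinimalSimple G := ⟨⟨fun K hK => e ▸ hN.min K hK (e ▸ le_top)⟩,
      fun e => ns (Group.isSolvable_of_comm e.1.1), h.solvable⟩
    exact h.of_minList hG (hm G hG)
  · exact h.step ns hN (h.solvable N e) (ih (h.of_surjective (QuotientGroup.mk'_surjective N))
      fun e' => ns (Core.isSolvable_of_normal_quotient N (h.solvable N e) e'))

end Cfsg.Lib.NG
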