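import Cfsg.Agent.Lib.NG.Acd2
import Cfsg.Agent.Lib.NG.Almost
import Cfsg.Agent.Lib.FGS.PslAut2
import Cfsg.Agent.Lib.Fusion.Focal
import Cfsg.Agent.Lib.Cyc.Local

/-! Groups in which all non-trivial `{p, q}`-subgroups have maximal normalisers. -/

set_option autoImplicit false

namespace Cfsg.Lib.NG

open Subgroup Cfsg.Lib.PSL2 Cfsg.Lib.Core
open scoped commutatorElement MatrixGroups

variable {G X : Type*} [Group G] [Group X] {p q : ℕ}

/-- The order has at most two prime divisors. -/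
def BiP (H : Subgroup G) : Prop :=
  ∃ p q : ℕ, p.Prime ∧ q.Prime ∧ ∀ r : ℕ, r.Prime → r ∣ Nat.card H → r = p ∨ r = q

/-- All non-trivial `{p, q}`-subgroups have maximal normalisers. -/
def PM (G : Type*) [Group G] : Prop := ∀ H : Subgroup G, H ≠ ⊥ → BiP H → IsCoatom (normalizer (H : Set G))

theorem biP_of_dvd {H : Subgroup G} (hp : p.Prime) (hq : q.Prime) {a b : ℕ} (h : Nat.card H ∣ p ^ a * q ^ b) :
    BiP H := ⟨p, q, hp, hq, fun _ hr e => ((Nat.Prime.dvd_mul hr).1 (e.trans h)).imp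
  (fun e => (Nat.prime_dvd_prime_iff_eq hr hp).1 (hr.dvd_of_dvd_pow e))
  fun e => (Nat.prime_dvd_prime_iff_eq hr hq).1 (hr.dvd_of_dvd_pow e)⟩

theorem biP_of_isPGroup [Finite G] {H : Subgroup G} (hp : p.Prime) (h : IsPGroup p H) : BiP H := by
  have := Fact.mk hp
  obtain ⟨a, ha⟩ := h.exists_card_eq
  exact biP_of_dvd hp hp (a := a) (b := 0) (by simp [ha])

theorem isPGroup_zpowers {x : G} {k : ℕ} (h : x ^ p ^ k = 1) : IsPGroup p (zpowers x) := by
  rintro ⟨_, n, rfl⟩
  exact ⟨k, Subtype.ext (by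
    change (x ^ n) ^ p ^ k = 1
    rw [← zpow_natCast, ← zpow_mul, mul_comm, zpow_mul, zpow_natCast, h, one_zpow])⟩

theorem mem_normalizer_of_map {f : X →* G} (hf : Function.Injective f) {H : Subgroup X} {g : X}
    (h : f g ∈ normalizer ((H.map f : Subgroup G) : Set G)) : g ∈ normalizer (H : Set X) :=
  mem_normalizer_iff.2 fun a => by
    have := mem_normalizer_iff.1 h (f a)
    rwa [← map_inv, ← map_mul, ← map_mul, mem_map_iff_mem hf, mem_map_iff_mem hf] at this

theorem PM.of_equiv (h : PM G) (e : G ≃* X) : PM X := fun H h0 hH => by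
  have h1 := h (H.map e.symm.toMonoidHom) (mt (map_eq_bot_iff_of_injective _ e.symm.injective).1 h0)
    (by rwa [BiP, card_map_of_injective e.symm.injective])
  rw [← map_equiv_normalizer_eq] at h1
  exact (OrderIso.isCoatom_iff e.symm.mapSubgroup _).1 h1

theorem PM.eq (h : PM G) {H L : Subgroup G} (h0 : H ≠ ⊥) (hH : BiP H) (h1 : normalizer (H : Set G) ≤ L)
    (h2 : L ≠ ⊤) : L = normalizer (H : Set G) := ((h H h0 hH).le_iff.1 h1).resolve_left h2

variable [Finite G]

theorem PM.sup (h : PM G) (hp : p.Prime) (hq : q.Prime) (hpq : p ≠ q) {P Q : Subgroup G} (hP : IsPGroup p P)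
    (h0 : P ≠ ⊥) (hQ : IsPGroup q Q) (hn : Q ≤ normalizer (P : Set G)) :
    normalizer (P : Set G) = normalizer ((P ⊔ Q : Subgroup G) : Set G) := by
  have := Fact.mk hp
  have := Fact.mk hq
  obtain ⟨a, ha⟩ := hP.exists_card_eq
  obtain ⟨b, hb⟩ := hQ.exists_card_eq
  refine h.eq (fun e => h0 (le_bot_iff.1 (le_sup_left.trans e.le)))
    (biP_of_dvd hp hq (ha ▸ hb ▸ Coprime.card_sup_dvd hn)) (fun g hg => ?_) (h P h0 (biP_of_isPGroup hp hP)).1
  refine mem_normalizer_fintype fun x hx => Fusion.mem_of_coprime_of_mem_sup hQ hn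
    ((mem_normalizer_iff.1 hg x).1 (mem_sup_left hx)) ?_
  rw [show orderOf (g * x * g⁻¹) = orderOf x from (MulAut.conj g).orderOf_eq x]
  exact Nat.Coprime.coprime_dvd_left (ha ▸ orderOf_dvd_natCard P hx) (((Nat.coprime_primes hp hq).2 hpq).pow_left _)

theorem PM.isNGroup (h : PM G) : IsNGroup G := by
  rintro _ ⟨p, P, hp, hP, h0, rfl⟩
  have := Fact.mk hp
  set M := normalizer (P : Set G)
  refine isSolvable_of_normal_quotient (solvableRadical M) inferInstance (isSolvable_of_isPGroup (p := p)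
    (IsPGroup.of_card (Nat.eq_prime_pow_of_unique_prime_dvd Nat.card_pos.ne' fun {q} hq hd => ?_)))
  by_contra e
  have := Fact.mk hq
  obtain ⟨Q⟩ : Nonempty (Sylow q M) := inferInstance
  have h1 := h.sup hp hq (Ne.symm e) hP h0 (Q.2.map M.subtype) (map_subtype_le _)
  have h2 : ((P ⊔ Q.1.map M.subtype).subgroupOf M) ≤ solvableRadical M := le_solvableRadical
    ((normal_subgroupOf_iff_le_normalizer (sup_le le_normalizer (map_subtype_le _))).2 h1.le)
    (isSolvable_subgroupOf _ (by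
      rw [sup_comm]
      exact isSolvable_sup (map_subtype_le _) (isSolvable_of_isPGroup (Q.2.map _)) (isSolvable_of_isPGroup hP)))
  exact Q.not_dvd_index (hd.trans (index_dvd_of_le fun x hx => h2 (mem_sup_right (mem_map_of_mem _ hx))))

/-- The local consequences inherited by a normal subgroup. -/
structure Loc (X : Type*) [Group X] : Prop where
  ng : IsNGroup X
  e1 : ∀ (x y g : X) (p q : ℕ), p.Prime → q.Prime → p ≠ q → x ≠ 1 → x ^ p = 1 → y ^ q = 1 → x * y = y * x →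
    x * g = g * x → g * y * g⁻¹ ∈ zpowers y
  e2 : ∀ ρ t : X, t * t = 1 → t * ρ * t⁻¹ = ρ⁻¹ → 3 ∣ orderOf ρ → ρ ^ 6 = 1
  ed : ∀ x : X, (orderOf x).Prime → normalizer ((centralizer {x} : Subgroup X) : Set X) ≤
    normalizer (zpowers x : Set X)

theorem PM.e1 (h : PM G) {x y g : G} (hp : p.Prime) (hq : q.Prime) (hpq : p ≠ q) (x1 : x ≠ 1) (hx : x ^ p = 1)
    (hy : y ^ q = 1) (h1 : x * y = y * x) (h2 : x * g = g * x) : g * y * g⁻¹ ∈ zpowers y := by
  have := Fact.mk hp
  have hP : IsPGroup p (zpowers x) := isPGroup_zpowers (k := 1) (by simpa)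
  have key : ∀ {a b : G}, a * b = b * a → b ∈ normalizer (zpowers a : Set G) := fun e =>
    centralizer_le_normalizer_zpowers _ (mem_centralizer_singleton_iff.2 e.symm)
  have h3 := h.sup hp hq hpq hP (mt zpowers_eq_bot.1 x1) (isPGroup_zpowers (k := 1) (x := y) (by simpa))
    (zpowers_le.2 (key h1))
  refine Fusion.mem_of_coprime_of_mem_sup hP (zpowers_le.2 (key h1.symm)) (sup_comm _ (zpowers y) ▸
    (mem_normalizer_iff.1 (h3.le (key h2)) y).1 (mem_sup_right (mem_zpowers y))) ?_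
  rw [show orderOf (g * y * g⁻¹) = orderOf y from (MulAut.conj g).orderOf_eq y]
  exact Nat.Coprime.coprime_dvd_left (orderOf_dvd_of_pow_eq_one hy) ((Nat.coprime_primes hq hp).2 hpq.symm)

theorem PM.e2 (h : PM G) {ρ t : G} (ht : t * t = 1) (h1 : t * ρ * t⁻¹ = ρ⁻¹) (h3 : 3 ∣ orderOf ρ) :
    ρ ^ 6 = 1 := by
  have hy := orderOf_pow_orderOf_div (orderOf_pos ρ).ne' h3
  set y := ρ ^ (orderOf ρ / 3) with hy'
  have h4 : zpowers t ≤ normalizer (zpowers y : Set G) := zpowers_le.2 (mem_normalizer_zpowers.2 (by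
    rw [hy', ← conj_pow, h1, inv_pow]; exact inv_mem (mem_zpowers _)))
  have h5 := h.sup Nat.prime_three Nat.prime_two (by norm_num) (isPGroup_zpowers (k := 1) (x := y)
    (by rw [pow_one, ← hy, pow_orderOf_eq_one])) (fun e => by simp [zpowers_eq_bot.1 e] at hy)
    (isPGroup_zpowers (k := 1) (x := t) (by rwa [pow_one, sq])) h4
  have h6 : ρ ∈ normalizer (zpowers y : Set G) := centralizer_le_normalizer_zpowers _
    (mem_centralizer_singleton_iff.2 (Commute.self_pow ρ _))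
  have h7 := mul_mem ((mem_normalizer_iff.1 (h5.le h6) t).1 (mem_sup_right (mem_zpowers t)))
    (inv_mem (mem_sup_right (mem_zpowers t)))
  rw [show ρ * t * ρ⁻¹ * t⁻¹ = ρ * (t * ρ * t⁻¹)⁻¹ by group, h1, inv_inv] at h7
  obtain ⟨a, ha, b, hb, e⟩ := (Coprime.mem_sup_left_of_le_normalizer h4).1 h7
  have h8 : a ^ 3 = 1 := by rw [← hy, ← Nat.card_zpowers]; exact congrArg Subtype.val (pow_card_eq_one' (x := (⟨a, ha⟩ : zpowers y)))
  have h9 : Commute a ρ := by
    obtain ⟨k, rfl⟩ := ha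
    exact ((Commute.refl ρ).pow_left _).zpow_left k
  obtain ⟨k, rfl⟩ := hb
  have h10 : t ^ (2 : ℤ) = 1 := by rw [zpow_two, ht]
  rcases Int.even_or_odd' k with ⟨j, rfl | rfl⟩
  · simp only [zpow_mul, h10, one_zpow, mul_one] at e
    rw [show ρ ^ 6 = (ρ * ρ) ^ 3 by rw [← sq, ← pow_mul], ← e, h8]
  · simp only [zpow_add, zpow_mul, h10, one_zpow, one_mul, zpow_one] at e
    have h11 : Commute t ρ := by
      rw [eq_inv_mul_of_mul_eq e]
      exact h9.inv_left.mul_left ((Commute.refl ρ).mul_left (Commute.refl ρ))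
    rw [h11.eq, mul_inv_cancel_right, eq_inv_iff_mul_eq_one] at h1
    rw [show ρ ^ 6 = (ρ * ρ) ^ 3 by rw [← sq, ← pow_mul], h1, one_pow]

theorem PM.loc (h : PM G) (hR : solvableRadical G = ⊥) {f : X →* G} (hf : Function.Injective f)
    (hn : f.range.Normal) : Loc X where
  ng := by
    rintro _ ⟨p, P, hp, hP, h0, rfl⟩
    exact (isSolvable_map_iff hf).1 (isSolvable_of_le (le_normalizer_map f) (h.isNGroup _
      ⟨p, _, hp, hP.map f, mt (map_eq_bot_iff_of_injective _ hf).1 h0, rfl⟩))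
  e1 x y g p q hp hq hpq x1 hx hy h1 h2 := by
    obtain ⟨k, hk⟩ := h.e1 (x := f x) (y := f y) (g := f g) hp hq hpq (mt (map_eq_one_iff f hf).1 x1)
      (by rw [← map_pow, hx, map_one]) (by rw [← map_pow, hy, map_one]) (by rw [← map_mul, h1, map_mul])
      (by rw [← map_mul, h2, map_mul])
    exact ⟨k, hf (by simpa using hk)⟩
  e2 ρ t ht h1 h3 := hf (by
    rw [map_pow, map_one]
    exact h.e2 (t := f t) (by rw [← map_mul, ht, map_one]) (by simpa using congrArg f h1)
      (by rwa [orderOf_injective f hf]))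
  ed x hx g hg := by
    have x1 : f x ≠ 1 := fun e => hx.ne_one (by rw [← orderOf_injective f hf, e, orderOf_one])
    have h1 : (centralizer {x}).map f = centralizer {f x} ⊓ f.range := by
      ext y
      simp only [mem_map, mem_inf, mem_centralizer_singleton_iff, MonoidHom.mem_range]
      exact ⟨fun ⟨a, e, e'⟩ => ⟨by rw [← e', ← map_mul, e, map_mul], a, e'⟩,
        fun ⟨e, a, e'⟩ => ⟨a, hf (by rw [map_mul, map_mul, e', e]), e'⟩⟩
    have h2 := h.eq (H := zpowers (f x)) (L := normalizer (((centralizer {x}).map f : Subgroup G) : Set G))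
      (mt zpowers_eq_bot.1 x1) (biP_of_isPGroup hx (isPGroup_zpowers (k := 1)
        (by rw [pow_one, ← map_pow, pow_orderOf_eq_one, map_one])))
      (by
        rw [h1, ← centralizer_closure, ← zpowers_eq_closure]
        exact Coprime.le_normalizer_inf (Coprime.le_normalizer_centralizer le_rfl)
          (le_top.trans (normalizer_eq_top f.range).ge))
      fun e => x1 ((le_solvableRadical (normalizer_eq_top_iff.1 e) (isSolvable_of_le (h1.le.trans inf_le_left)
        (ng_cent h.isNGroup x1))).trans hR.le ⟨x, mem_centralizer_singleton_iff.2 rfl, rfl⟩)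
    refine mem_normalizer_of_map hf ?_
    rw [MonoidHom.map_zpowers, ← h2]
    exact le_normalizer_map f ⟨g, hg, rfl⟩

theorem Loc.not_cfg (h : Loc X) {x y g : X} (h1 : x * x = 1 ∧ y * y * y = 1 ∨ x * x * x = 1 ∧ y * y = 1)
    (x1 : x ≠ 1) (h2 : x * y = y * x) (h3 : x * g = g * x) (h4 : g * y ≠ y * g) (h5 : g * y ≠ y * y * g) :
    False := by
  obtain ⟨n, hn, h6, k, hk⟩ : ∃ n : ℤ, (n = 2 ∨ n = 3) ∧ y ^ n = 1 ∧ g * y * g⁻¹ ∈ zpowers y := by
    rcases h1 with ⟨e, e'⟩ | ⟨e, e'⟩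
    · exact ⟨3, Or.inr rfl, by rwa [zpow_ofNat, pow_three'], h.e1 x y g 2 3 Nat.prime_two Nat.prime_three
        (by norm_num) x1 (by rwa [sq]) (by rwa [pow_three']) h2 h3⟩
    · exact ⟨2, Or.inl rfl, by rwa [zpow_two], h.e1 x y g 3 2 Nat.prime_three Nat.prime_two
        (by norm_num) x1 (by rwa [pow_three']) (by rwa [sq]) h2 h3⟩
  simp only [zpow_eq_zpow_emod k h6, eq_mul_inv_iff_mul_eq] at hk
  rcases (by rcases hn with rfl | rfl <;> omega : k % n = 0 ∨ k % n = 1 ∨ k % n = 2) with e | e | e <;> rw [e] at hk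
  · rw [zpow_zero, one_mul, left_eq_mul] at hk
    simp [hk] at h4
  · exact h4 (by rw [← hk, zpow_one])
  · exact h5 (by rw [← hk, zpow_two])

theorem not_loc_A7 : ¬ Loc (alternatingGroup (Fin 7)) := fun h =>
  h.not_cfg (x := ⟨Equiv.swap 4 5 * Equiv.swap 4 6, Equiv.Perm.mem_alternatingGroup.2 (by decide)⟩)
    (y := ⟨Equiv.swap 0 1 * Equiv.swap 2 3, Equiv.Perm.mem_alternatingGroup.2 (by decide)⟩)
    (g := ⟨Equiv.swap 0 1 * Equiv.swap 0 2, Equiv.Perm.mem_alternatingGroup.2 (by decide)⟩)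
    (by decide) (by decide) (by decide) (by decide) (by decide) (by decide)

theorem not_loc_L33 : ¬ Loc SL(3, ZMod 3) := fun h =>
  h.not_cfg (x := ⟨!![2, 0, 0; 0, 2, 0; 0, 0, 1], by decide⟩) (y := ⟨!![1, 1, 0; 0, 1, 0; 0, 0, 1], by decide⟩)
    (g := ⟨!![1, 0, 0; 1, 1, 0; 0, 0, 1], by decide⟩)
    (Or.inl ⟨Subtype.ext (by decide +kernel), Subtype.ext (by decide +kernel)⟩)
    (fun h => absurd (congrArg (· 0 0) h) (by decide)) (by decide +kernel)
    (by decide +kernel) (by decide +kernel) (by decide +kernel)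

open Cfsg.Lib.Golay Cfsg.Lib.Calc Cfsg.Lib.Grp Cfsg.Lib.Mathieu in
theorem not_loc_M11 : ¬ Loc Spor.M11 := fun hl => by
  have h : ∀ c ∈ [944576703234065857180591671912828960, 984810076680926912408264979666733568,
      855843451621162537996287372286862752],
      ∃ g ∈ (⊤ : Subgroup Spor.M11), Rep 24 5 G.pt g c := same11.list (mem11.list (by decide +kernel))
  obtain ⟨x, -, hx⟩ := h _ List.mem_cons_self
  obtain ⟨y, -, hy⟩ := h _ (List.mem_cons_of_mem _ List.mem_cons_self)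
  obtain ⟨g, -, hg⟩ := h _ (List.mem_cons_of_mem _ (List.mem_cons_of_mem _ List.mem_cons_self))
  have h1 : Rep 24 5 G.pt (1 : Spor.M11) _ := Rep.one (by norm_num)
  have key : ∀ {g h : Spor.M11} {c d : ℕ}, Rep 24 5 G.pt g c → Rep 24 5 G.pt h d → c = d → g = h :=
    fun hg hh e => Rep.eq_of_faithful (faithful_P24.subgroup _) hg (e ▸ hh)
  exact hl.not_cfg (Or.inl ⟨key (hx.mul hx) h1 (by decide +kernel), key ((hy.mul hy).mul hy) h1 (by decide +kernel)⟩)
    (hx.ne_of_ne inj_pt h1 (by decide +kernel)) (key (hx.mul hy) (hy.mul hx) (by decide +kernel))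
    (key (hx.mul hg) (hg.mul hx) (by decide +kernel)) ((hg.mul hy).ne_of_ne inj_pt (hy.mul hg) (by decide +kernel))
    ((hg.mul hy).ne_of_ne inj_pt ((hy.mul hy).mul hg) (by decide +kernel))

open Cfsg.Lib.Asch Cfsg.Agent.S1897 Matrix in
theorem not_loc_SU33 : ¬ Loc (SU 3 F9 3) := fun h =>
  h.not_cfg (x := el [[2, 0, 0], [0, 2, 0], [0, 0, 1]] (by rw [det_fin_three]; decide +kernel) (by decide +kernel))
    (y := el [[4, 4, 0], [5, 7, 0], [0, 0, 1]] (by rw [det_fin_three]; decide +kernel) (by decide +kernel))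
    (g := el [[4, 5, 0], [4, 7, 0], [0, 0, 1]] (by rw [det_fin_three]; decide +kernel) (by decide +kernel))
    (by decide +kernel) (by decide +kernel) (by decide +kernel) (by decide +kernel) (by decide +kernel)
    (by decide +kernel)

open Cfsg.Lib.Asch in
theorem equiv_SU33 {F : Type*} [Field F] [Fintype F] (hF : Fintype.card F = 9) :
    Nonempty (PSU 3 F 3 ≃* SU 3 F9 3) :=
  ⟨(Mult.psuCongr (FiniteField.ringEquivOfCardEq (hF.trans card_F9.symm)) 3 3).trans
    ((QuotientGroup.quotientMulEquivOfEq (card_eq_one.1 ((Unitary.card_center_SU (q := 3) card_F9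
      (by norm_num)).trans (by decide)))).trans QuotientGroup.quotientBot)⟩

theorem not_loc_sz {F : Type*} [Field F] [Finite F] (M : Sz.Model F X) (ht : ∃ t : F, t ≠ 0 ∧ t ≠ 1) :
    ¬ Loc X := fun h => by
  obtain ⟨t, t0, t1⟩ := ht
  have z1 : M.u 0 1 ≠ 1 := fun e => one_ne_zero (M.u_eq_one.1 e).2
  have h1 : orderOf (M.u 0 1) = 2 := orderOf_eq_prime (sq (M.u 0 1) ▸ (M.mem_Z_iff.1 (M.u_mem_Z 1)).2) z1
  have h2 := h.ed _ (h1 ▸ Nat.prime_two)
  rw [M.centralizer_of_mem_Z (M.u_mem_Z 1) z1, M.normalizer_U] at h2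
  have h3 := Cyc.relIndex_dvd_pred (p := 2) ((Nat.card_zpowers _).trans h1) h2
  rw [Nat.dvd_one, relIndex_eq_one, zpowers_eq_closure, centralizer_closure,
    M.centralizer_of_mem_Z (M.u_mem_Z 1) z1] at h3
  exact t1 (congrArg Units.val (M.h_eq_one.1 (M.U_inf_H.le
    ⟨h3 (M.h_mem_B (Units.mk0 t t0)), M.h_mem_H _⟩)))

theorem TitsCfg.not_loc (h : TitsCfg G) : ¬ Loc G := fun hl => by
  obtain ⟨T, l, z, h, -⟩ := h
  have z2 : z * z = 1 := congrArg Subtype.val (h.k4.mul_self ⟨z, h.mem⟩)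
  have hz : orderOf z = 2 := orderOf_eq_prime (by rwa [sq]) h.ne
  have hC : normalizer (zpowers z : Set G) = centralizer {z} := le_antisymm (by
    have := Cyc.relIndex_dvd_pred (p := 2) ((Nat.card_zpowers _).trans hz) le_rfl
    rwa [Nat.dvd_one, relIndex_eq_one, zpowers_eq_closure z, centralizer_closure, ← zpowers_eq_closure] at this)
    (centralizer_le_normalizer_zpowers z)
  have hT : T ≤ centralizer {z} := fun a ha => mem_centralizer_singleton_iff.2
    (Loc.oz_le_centralizer (p := 2) T (h.oz ▸ mem_zpowers z) a ha)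
  obtain ⟨r, hr, h1, h2⟩ : ∃ r, r.Prime ∧ r ≠ 2 ∧ r ∣ Nat.card (centralizer ({z} : Set G)) := by
    by_contra! e
    obtain ⟨k, hk⟩ : ∃ k, Nat.card (centralizer ({z} : Set G)) = 2 ^ k := ⟨_, Nat.eq_prime_pow_of_unique_prime_dvd
      Nat.card_pos.ne' fun {r} hr hd => by_contra fun e' => e r hr e' hd⟩
    exact h.nC ((Loc.le_of_not_dvd_relIndex (h.syl.of_le hT le_top).idx le_rfl (IsPGroup.of_card hk)
      le_normalizer).trans h.le)
  obtain ⟨y, hy, rfl⟩ := exists_mem_orderOf_eq_prime hr h2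
  have h3 : pCoreOf 2 (centralizer {z}) ≤ normalizer (zpowers y : Set G) := fun g hg =>
    mem_normalizer_zpowers.2 (hl.e1 z y g 2 _ Nat.prime_two hr h1.symm h.ne (by rwa [sq]) (pow_orderOf_eq_one y)
      (mem_centralizer_singleton_iff.1 hy).symm (mem_centralizer_singleton_iff.1 (map_subtype_le _ hg)).symm)
  have hQ : IsPGroup 2 (pCoreOf 2 (centralizer {z})) := Loc.core_pgroup 2 _
  have h4 : zpowers y ⊓ pCoreOf 2 (centralizer {z}) = ⊥ := by
    obtain ⟨k, hk⟩ := hQ.exists_card_eq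
    exact Coprime.inf_eq_bot_of_coprime' (by
      rw [hk, Nat.card_zpowers]; exact ((Nat.coprime_primes hr Nat.prime_two).2 h1).pow_right _)
  have h5 := Coprime.inf_normalizer_eq_inf_centralizer h3 (inf_comm (zpowers y) _ ▸ h4)
  exact hr.ne_one (orderOf_eq_one_iff.2 (h4.le ⟨mem_zpowers y, h.hyp.chp _ ⟨zpowers z, isPGroup_zpowers (k := 1)
    (by rwa [pow_one, sq]), mt zpowers_eq_bot.1 h.ne, hC.symm⟩ (h5.le ⟨mem_zpowers y,
      le_normalizer_pCoreOf 2 _ hy⟩).2⟩))

section PSL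
variable {F : Type*} [Field F] [Finite F]

theorem Loc.prime (h : Loc PSL(2, F)) : (Nat.card F).Prime := by
  have := Fintype.ofFinite F
  obtain ⟨p, _, n, hp, hn⟩ := FiniteField.card' F
  rw [← Nat.card_eq_fintype_card] at hn
  have := Fact.mk hp
  obtain ⟨⟨u, hu⟩, u1⟩ := (ne_bot_iff_exists_ne_one).1 (unipL_ne_bot (inf : P1 F))
  replace u1 : u ≠ 1 := fun e => u1 (Subtype.ext e)
  have h1 := orderOf_of_mem_unipL p hu u1
  have h2 := h.ed _ (h1 ▸ hp)
  rw [centralizer_of_mem_unipL hu u1, normalizer_unipL] at h2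
  have h3 := Nat.le_of_dvd (Nat.sub_pos_of_lt hp.one_lt)
    (Cyc.relIndex_dvd_pred ((Nat.card_zpowers _).trans h1) h2)
  rw [zpowers_eq_closure, centralizer_closure, centralizer_of_mem_unipL hu u1] at h3
  have h4 := card_stabilizerL_mul (inf : P1 F)
  rw [← Coprime.card_mul_relIndex (unipL_le_stabilizer inf), card_unipL, mul_left_comm] at h4
  have h5 := (Nat.eq_of_mul_eq_mul_left Nat.card_pos h4).ge.trans
    (Nat.mul_le_mul (Nat.gcd_le_left _ two_pos) h3)
  rcases n with ⟨_ | _ | n, h0⟩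
  · omega
  · simpa [hn, -Nat.card_eq_fintype_card]
  have h6 : p ^ 2 ≤ Nat.card F := hn ▸ Nat.pow_le_pow_right hp.pos (by simp)
  obtain ⟨a, rfl⟩ : ∃ a, p = a + 2 := ⟨_, (Nat.sub_add_cancel hp.two_le).symm⟩
  rw [show a + 2 - 1 = a + 1 by omega, tsub_le_iff_right] at h5
  nlinarith

theorem Loc.four (h : Loc PSL(2, F)) (h4 : 4 ≤ Nat.card F) :
    Nat.card F = 5 ∨ Nat.card F = 7 ∨ Nat.card F = 11 ∨ Nat.card F = 13 := by
  have hp := h.prime
  have := Fact.mk hp
  have := Fintype.ofFinite F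
  have : CharP F (Nat.card F) := charP_of_card_eq_prime Nat.card_eq_fintype_card.symm
  have h2 := hp.eq_two_or_odd
  have h3 : ¬ 3 ∣ Nat.card F := fun e => by
    have := (Nat.prime_dvd_prime_iff_eq Nat.prime_three hp).1 e
    omega
  obtain ⟨a, b, m, hT, h5, h6⟩ : ∃ (a b : P1 (AlgebraicClosure F)) (m : ℕ), TorusPair F a b m ∧ 3 ∣ m ∧
      (m = Nat.card F - 1 ∨ m = Nat.card F + 1) := by
    by_cases e : 3 ∣ Nat.card F + 1
    · obtain ⟨a, b, hT⟩ := exists_torusPair_nonsplit (F := F) (K := AlgebraicClosure F)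
      exact ⟨a, b, _, hT, e, Or.inr rfl⟩
    · obtain ⟨a, b, hT⟩ := exists_torusPair_split (F := F) (K := AlgebraicClosure F)
      exact ⟨a, b, _, hT, by omega, Or.inl rfl⟩
  obtain ⟨g, hg, -⟩ := hT.exists_zpowers_eqL
  rw [Nat.gcd_eq_left (by omega)] at hg
  obtain ⟨t, h7, h8⟩ := sreal_psl (Nat.card F) (g := g) (Nat.Coprime.symm (hp.coprime_iff_not_dvd.2 fun e => by
    have := Nat.le_of_dvd (orderOf_pos g) e
    omega))
  have h9 := orderOf_dvd_of_pow_eq_one (h.e2 g t h7 h8 (by omega))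
  have := Nat.le_of_dvd (by norm_num) h9
  omega

end PSL

end Cfsg.Lib.NG
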