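import Cfsg.Agent.Lib.NG.Zem
import Cfsg.Agent.Lib.NG.MaxN
import Cfsg.Agent.Lib.Small.Order
import Cfsg.Agent.Lib.Sz.TorusCount
import Cfsg.Agent.Lib.Grp.Orb
import Cfsg.Agent.Lib.Small.SylCount2

/-! Frobenius' conjecture for the simple N-groups. -/

set_option autoImplicit false

namespace Cfsg.Lib.NG

open Subgroup Cfsg.Lib.BG Cfsg.Lib.Transfer Cfsg.Lib.FGS Cfsg.Lib.PSL2 Cfsg.Lib.Small
open scoped MatrixGroups

variable {G : Type*} [Group G] [Finite G] {n p : ℕ}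

theorem card_dvd_of_conj_free {Q : Subgroup G} {S : Set G} (h1 : ∀ g ∈ Q, ∀ y ∈ S, g * y * g⁻¹ ∈ S)
    (h2 : ∀ g ∈ Q, ∀ y ∈ S, g * y = y * g → g = 1) : Nat.card Q ∣ S.ncard :=
  @Grp.card_dvd_ncard_of_free G G _ (MulAction.compHom _ (MulAut.conj : G →* MulAut G)) _ Q S h1
    fun g hg y hy e => h2 g hg y hy (eq_mul_of_mul_inv_eq e)

namespace FC
variable (h : FC G n)
include h

theorem SS_eq : (SS G n).ncard + 1 = n := by
  rw [← Set.ncard_insert_of_notMem (a := 1) fun h => h.1 rfl, ← h.eq]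
  congr 1
  ext x
  by_cases e : x = 1 <;> simp [SS, e, h.eq]

theorem eq_one [IsSimpleGroup G] {H : Subgroup G} (h1 : H ≠ ⊤) (hn : n ∣ Nat.card H) : n = 1 := by
  have h2 : H.normalCore = ⊥ := (IsSimpleGroup.eq_bot_or_eq_top_of_normal _ inferInstance).resolve_right
    fun e => h1 (top_unique (e.ge.trans H.normalCore_le))
  rw [← h.eq, Set.ncard_eq_one]
  refine ⟨1, Set.eq_singleton_iff_unique_mem.2 ⟨one_pow n, fun x hx => h2.le fun b => h.mem hn ?_⟩⟩
  rw [conj_pow, show x ^ n = 1 from hx]; simp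

theorem eq_one' [IsSimpleGroup G] (hG : ¬ IsMulCommutative G) (hp : p.Prime) {k : ℕ} (hn : n ∣ p ^ k) : n = 1 := by
  haveI := Fact.mk hp
  obtain ⟨j, -, rfl⟩ := (Nat.dvd_prime_pow hp).1 hn
  obtain ⟨H, hH⟩ := Sylow.exists_subgroup_card_pow_prime p h.dvd
  obtain ⟨P, hP⟩ := (IsPGroup.of_card hH).exists_le_sylow
  exact h.eq_one (fun e => sylow_ne_top hG P (top_unique (e.ge.trans hP))) hH.symm.dvd

theorem selfc (hp : p.Prime) {N : ℕ} (hN : Nat.card G = N) (h2 : ¬ p ^ 2 ∣ N) {x : G} (hx : orderOf x = p)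
    (h3 : Nat.card 𝐂[x] = p * 1) [Fact p.Prime] :
    (p ∣ n ∨ n % p = 1) ∧ (p - 1) * Nat.card (Sylow p G) ≤ (SS G p).ncard := by
  have hx' := (Nat.card_zpowers x).trans hx
  have hC := Cyc.centralizer_eq_zpowers hx (h3.trans (mul_one p))
  refine ⟨or_iff_not_imp_left.2 fun hn => ?_, ?_⟩
  · have h5 := card_dvd_of_conj_free (Q := zpowers x) (S := SS G n) (fun g _ y hy =>
      ⟨by simpa using hy.1, by rw [conj_pow, hy.2]; simp⟩) fun g hg y hy e => by_contra fun g1 => hy.1 (by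
        have h6 : y ∈ zpowers x := hC.le (mem_centralizer_singleton_iff.2
          (commute_of_mem_zpowers (hx ▸ hp) hg g1 e.symm))
        have h7 := pow_gcd_eq_one.2 ⟨orderOf_dvd_iff_pow_eq_one.1 (hx ▸ orderOf_dvd_of_mem_zpowers h6), hy.2⟩
        rwa [(hp.coprime_iff_not_dvd.2 hn).gcd_eq_one, pow_one] at h7)
    rw [hx'] at h5
    rw [← h.SS_eq, Nat.add_mod, Nat.mod_eq_zero_of_dvd h5, zero_add, Nat.mod_mod, Nat.mod_eq_of_lt hp.one_lt]
  · obtain ⟨P, hP⟩ := (IsPGroup.of_card (hx'.trans (pow_one p).symm)).exists_le_sylow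
    have h5 : Nat.card P = p := by
      obtain ⟨k, hk⟩ := P.isPGroup'.exists_card_eq
      refine Nat.dvd_antisymm ?_ (hx'.symm.dvd.trans (card_dvd hP))
      rw [hk]
      refine (pow_dvd_pow p (not_lt.1 fun h6 => h2 ?_)).trans (pow_one p).dvd
      exact (pow_dvd_pow p h6).trans (hk.symm.dvd.trans ((card_subgroup_dvd_card _).trans hN.dvd))
    have h6 := SS_lb (A := P) (D := 𝐍((P : Subgroup G))) (a := p) (b := p) (fun y hy y1 g hg => by
      rw [← zpowers_eq_of_prime (by rwa [h5]) hy y1] at hg ⊢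
      exact mem_normalizer_zpowers.2 hg) (le_ncard_pow' h5.symm.dvd)
    rw [← card_sylow_mul_card_normalizer P, ← mul_assoc, mul_comm _ (SS G p).ncard] at h6
    exact Nat.le_of_mul_le_mul_right h6 Nat.card_pos

theorem sieve [IsSimpleGroup G] (hG : ¬ IsMulCommutative G) {B N m : ℕ} (hp : p.Prime) (hN : Nat.card G = N)
    (h1 : p ∣ N) (h2 : ¬ p ^ 2 ∣ N) (hB : N < (B + 1) ^ 2) {Φ : ℕ → Prop}
    (hΦ : ∀ x : G, orderOf x = p → ∀ c, Nat.card 𝐂[x] = p * c → Φ c)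
    (hc : ∀ A ∈ cfgsX B N p (primes1 B N), Φ A.2.2.1 → A.1 = m ∧ A.2.2.1 = 1) :
    (p ∣ n ∨ n % p = 1) ∧ (p - 1) * m ≤ (SS G p).ncard := by
  classical
  haveI := Fact.mk hp
  obtain ⟨x, e, t, c, S, Y, a, δ, θ, l, hx, -, -, h3, -, h4⟩ := exists_mem_cfgsX hG hp hN h1 h2 hB
  obtain ⟨rfl, rfl⟩ := hc _ h4 (hΦ x hx c h3)
  exact h.selfc hp hN h2 hx h3

variable [hp : Fact p.Prime]

theorem not_half {P : Subgroup G} (hP : Syl p P ⊤) (hc : ¬ IsCyclic P) {a : ℕ} (h0 : ¬ p ^ (a + 2) ∣ Nat.card G) :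
    ¬ (p ^ a ∣ n ∧ p * n ∣ Nat.card G) := fun ⟨h1, h2⟩ => by
  obtain ⟨x, hx⟩ := h.exists_orderOf h2
  obtain ⟨g, -, hg⟩ := hP.exists_conj_le (IsPGroup.of_card ((Nat.card_zpowers x).trans hx)) le_top
  obtain ⟨k, hk⟩ := hP.pgroup.exists_card_eq
  refine hc (eq_of_le_of_card_le hg ?_ ▸ (cyclic_conj g).2 inferInstance)
  rw [card_conj, Nat.card_zpowers, hx, hk]
  refine Nat.pow_le_pow_right hp.out.pos (not_lt.1 fun h3 => h0 ?_)
  have := (hp.out.pow_dvd_iff_le_factorization h.pos.ne').1 h1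
  exact (pow_dvd_pow p (by omega)).trans (hk ▸ card_subgroup_dvd_card P)

omit hp in
theorem two [IsSimpleGroup G] (hG : ¬ IsMulCommutative G) {N : ℕ} (hN : Nat.card G = N) (a : ℕ)
    (h0 : ¬ 2 ^ (a + 2) ∣ N) : ¬ (2 ^ a ∣ n ∧ 2 * n ∣ N) := by
  obtain ⟨P, hP⟩ := Syl.exists 2 (⊤ : Subgroup G)
  subst hN
  refine fun h1 => h.not_half hP (fun hc => ?_) h0 h1
  have h2 := cyclic_pdiv_normal_complement hP hc fun _ hq _ => hq.two_le
  rcases IsSimpleGroup.eq_bot_or_eq_top_of_normal _ (normalizer_eq_top_iff.1 (top_unique (pcore_nml {2}ᶜ (⊤ : Subgroup G)).norm))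
    with e | e
  · have h3 := h2.sup
    rw [e, bot_sup_eq] at h3
    subst h3
    haveI := topEquiv.isCyclic.1 hc
    exact hG inferInstance
  · have h3 := h2.inf
    rw [e, top_inf_eq] at h3
    exact hP.ne_bot' (card_top (G := G) ▸ (dvd_mul_right 2 n).trans h1.2) h3

omit hp in
theorem three {N : ℕ} (hN : Nat.card G = N) {a b : G} (ha : a * a * a = 1) (hb : b * b * b = 1) (e : a * b = b * a)
    (a1 : a ≠ 1) (b1 : b ≠ 1) (h1 : b ≠ a) (h2 : b ≠ a * a) : ¬ (3 ∣ n ∧ 3 * n ∣ N) := fun ⟨h3, h4⟩ => by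
  rw [← pow_three'] at ha hb
  have oa := (Nat.card_zpowers a).trans (orderOf_eq_prime ha a1)
  have ob := (Nat.card_zpowers b).trans (orderOf_eq_prime hb b1)
  have pa : IsPGroup 3 (zpowers a) := .of_card (oa.trans (pow_one 3).symm)
  have pb : IsPGroup 3 (zpowers b) := .of_card (ob.trans (pow_one 3).symm)
  obtain ⟨P, hP, h5⟩ := Syl.exists_ge (M := ⊤) (pa.to_sup_of_normal_right' pb
    (zpowers_le.2 (mem_normalizer_zpowers.2 (by rw [e]; simp)))) le_top
  have h6 := (h.cyclic_or (hN ▸ h4) h3 hP).resolve_right fun h => absurd h.1 (by norm_num)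
  have h7 : zpowers b ≤ zpowers a := (le_total_of_isCyclic hP.pgroup h6 (le_sup_left.trans h5)
    (le_sup_right.trans h5)).elim (fun h => (eq_of_le_of_card_le h (by rw [oa, ob])).ge) id
  obtain ⟨k, hk⟩ := h7 (mem_zpowers b)
  simp only [zpow_eq_zpow_emod k (show a ^ (3 : ℤ) = 1 from (zpow_ofNat a 3).trans ha)] at hk
  rcases (by omega : k % 3 = 0 ∨ k % 3 = 1 ∨ k % 3 = 2) with e | e | e <;> rw [e] at hk
  exacts [b1 (by simpa using hk.symm), h1 (by simpa using hk.symm), h2 (by rw [← hk, zpow_two])]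

end FC

theorem psl_arith {q d A B a b s t u n : ℕ} (hq : 4 ≤ q) (hA : d * A + 1 = q) (hB : d * B = q + 1) (ha : a ≤ A)
    (hb : b ≤ B) (a0 : 0 < a) (b0 : 0 < b) (h1 : (a - 1) * (q * d * B) ≤ 2 * s) (h2 : (b - 1) * (q * d * A) ≤ 2 * t) :
    ((q - 1) * (d * B) ≤ u → u + s + t + 1 ≤ n → n ≤ q * d * a * b → q * d * A * B ≤ n) ∧
      (s + t + 1 ≤ n → n ≤ d * a * b → a = 1 ∧ b = 1) := by
  obtain ⟨a, rfl⟩ := Nat.exists_eq_add_of_lt a0
  obtain ⟨b, rfl⟩ := Nat.exists_eq_add_of_lt b0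
  obtain ⟨i, rfl⟩ := Nat.exists_eq_add_of_le ha
  obtain ⟨j, rfl⟩ := Nat.exists_eq_add_of_le hb
  simp only [zero_add, Nat.add_sub_cancel] at *
  have d0 : 0 < d := Nat.pos_of_ne_zero (by rintro rfl; simp at hB)
  refine ⟨fun h3 h4 h5 => ?_, fun h4 h5 => ?_⟩
  · have e : 2 * ((q - 1) * (d * (b + 1 + j))) + 2 = q * (d * (a + 1 + i)) + q * (d * (b + 1 + j)) := by
      obtain ⟨r, rfl⟩ := Nat.exists_eq_add_of_le' (show 1 ≤ q by omega)
      rw [hB, Nat.add_right_cancel hA, Nat.add_sub_cancel]; ring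
    have h6 : q * d * ((a + 1) * j + (b + 1) * i) ≤ q * d * 0 := by nlinarith
    have h7 := Nat.le_of_mul_le_mul_left h6 (by positivity)
    obtain rfl : i = 0 := by nlinarith
    obtain rfl : j = 0 := by nlinarith
    nlinarith
  · have h6 : a * (4 * d * (b + 1)) ≤ a * (q * d * (b + 1 + j)) := by gcongr
    have h7 : b * (4 * d * (a + 1)) ≤ b * (q * d * (a + 1 + i)) := by gcongr
    constructor
    · by_contra h8
      have : d * (b + 1) ≤ a * (d * (b + 1)) := Nat.le_mul_of_pos_left _ (by omega)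
      nlinarith
    · by_contra h8
      have : d * (a + 1) ≤ b * (d * (a + 1)) := Nat.le_mul_of_pos_left _ (by omega)
      nlinarith

theorem le_of_dvd_mul {a b c d : ℕ} (h : n ∣ a * b * c * d) (h0 : 0 < n) :
    n ≤ n.gcd a * n.gcd b * n.gcd c * n.gcd d :=
  Nat.le_of_dvd (by simp [Nat.gcd_pos_of_pos_left _ h0]) ((Nat.gcd_eq_left h).symm.dvd.trans
    ((Nat.gcd_mul_right_dvd_mul_gcd _ _ _).trans (Nat.mul_dvd_mul_right ((Nat.gcd_mul_right_dvd_mul_gcd _ _ _).trans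
      (Nat.mul_dvd_mul_right (Nat.gcd_mul_right_dvd_mul_gcd _ _ _) _)) _)))

theorem FC.psl {F : Type*} [Field F] [Finite F] (h4 : 4 ≤ Nat.card F) (h : FC PSL(2, F) n) :
    n = 1 ∨ n = Nat.card PSL(2, F) := by
  have := Fintype.ofFinite F
  obtain ⟨p, _, k, hp, hk⟩ := FiniteField.card' F
  rw [← Nat.card_eq_fintype_card] at hk
  have := Fact.mk hp
  obtain ⟨x, y, h1⟩ := exists_torusPair_split F (AlgebraicClosure F)
  obtain ⟨x', y', h2⟩ := exists_torusPair_nonsplit F (AlgebraicClosure F)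
  have e1 := h1.card_torusL_mul
  have e2 := h2.card_torusL_mul
  have e3 := card_stabilizerL_mul (inf : P1 F)
  have e4 := card_PSL2_mul (K := F)
  have hd : Nat.gcd 2 (Nat.card F - 1) = 1 ∧ ¬ Odd (Nat.card F) ∨ Nat.gcd 2 (Nat.card F - 1) = 2 :=
    (em _).symm.imp (fun h => ⟨gcd_two_eq_of_even h, h⟩) gcd_two_eq_of_odd
  have lb : ∀ {x y : P1 (AlgebraicClosure F)} {m : ℕ}, TorusPair F x y m →
      (n.gcd (Nat.card (torusL F x y)) - 1) * Nat.card PSL(2, F) ≤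
        2 * Nat.card (torusL F x y) * (SS PSL(2, F) (n.gcd (Nat.card (torusL F x y)))).ncard := fun h => by
    rw [← h.card_dihL]
    refine SS_lb (G := PSL(2, F)) (fun y hy y1 g hg => mem_dihL.2 (mem_dih.2 (mem_pairStab_of_conj_mem h.ne
      (mem_torus.1 (mem_torusL.1 hy)) (fun e => y1 (toK_comp_toP_injective (e.trans (map_one _).symm))) ?_)))
      (le_ncard_pow' (Nat.gcd_dvd_right _ _))
    simpa [mem_torusL, mem_torus] using hg
  have l1 := lb h1
  have l2 := lb h2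
  have l3 := SS_lb (A := unipL (inf : P1 F)) (D := MulAction.stabilizer PSL(2, F) (inf : P1 F)) (a := p)
    (b := Nat.card F) (fun y hy y1 g hg => comap_stabilizer_toP (inf : P1 F) ▸ smul_eq_of_conj_mem_unip (h := toP g) hy
      (fun e => y1 (toP_injective (e.trans (map_one _).symm))) (by simpa [mem_unipL] using hg)) (by
      rw [← card_unipL (inf : P1 F)]
      refine Set.ncard_le_ncard (s := (unipL (inf : P1 F) : Set PSL(2, F))) fun x hx => ⟨hx, ?_⟩
      by_cases e : x = 1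
      · simp [e]
      · rw [← orderOf_of_mem_unipL p hx e, pow_orderOf_eq_one])
  generalize Nat.gcd 2 (Nat.card F - 1) = d at *
  generalize Nat.card (torusL F x y) = A at *
  generalize Nat.card (torusL F x' y') = B at *
  generalize hq : Nat.card F = q at *
  have d0 : 0 < d := by omega
  have A0 : 0 < A := Nat.pos_of_ne_zero (by rintro rfl; omega)
  have B0 : 0 < B := Nat.pos_of_ne_zero (by rintro rfl; omega)
  have e5 : Nat.card PSL(2, F) = q * d * A * B := Nat.eq_of_mul_eq_mul_left d0 (by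
    rw [e4, ← one_pow 2, Nat.sq_sub_sq, ← e1, ← e2]; ring)
  have e6 : Nat.card (MulAction.stabilizer PSL(2, F) (inf : P1 F)) = q * A := Nat.eq_of_mul_eq_mul_left d0 (by
    rw [e3, ← e1]; ring)
  have hAB : A.Coprime B := by
    rcases hd with ⟨rfl, h5⟩ | rfl
    · rw [show B = 2 + A by omega, Nat.coprime_add_self_right, Nat.coprime_two_right, Nat.odd_iff]
      rw [Nat.odd_iff] at h5; omega
    · simp [show B = A + 1 by omega]
  have hpq : p ∣ q := hk ▸ dvd_pow_self p k.ne_zero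
  have hpA : p.Coprime (A * B) := hp.coprime_iff_not_dvd.2 fun h5 => by
    rcases hp.dvd_mul.1 h5 with h5 | h5
    · exact hp.not_dvd_one ((Nat.dvd_add_right (h5.mul_left d)).1 (by rwa [show d * A + 1 = q by omega]))
    · exact hp.not_dvd_one ((Nat.dvd_add_right hpq).1 (e2 ▸ h5.mul_left d))
  have c1 := hAB.coprime_dvd_left (Nat.gcd_dvd_right n A) |>.coprime_dvd_right (Nat.gcd_dvd_right n B)
  have c2 := hpA.coprime_dvd_right (Nat.mul_dvd_mul (Nat.gcd_dvd_right n A) (Nat.gcd_dvd_right n B))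
  have c3 := c1.mul_dvd_of_dvd_of_dvd (Nat.gcd_dvd_left n A) (Nat.gcd_dvd_left n B)
  have s1 := SS_add (G := PSL(2, F)) c1
  have h5 := le_of_dvd_mul (e5 ▸ h.dvd) h.pos
  obtain ⟨a1, a2⟩ := psl_arith (n := n) (s := (SS PSL(2, F) (n.gcd A)).ncard)
    (t := (SS PSL(2, F) (n.gcd B)).ncard) (u := (SS PSL(2, F) p).ncard) h4 (show d * A + 1 = q by omega) e2
    (Nat.gcd_le_right n A0) (Nat.gcd_le_right n B0) (Nat.gcd_pos_of_pos_right n A0) (Nat.gcd_pos_of_pos_right n B0)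
    (Nat.le_of_mul_le_mul_left (by rw [e5] at l1; linarith) A0)
    (Nat.le_of_mul_le_mul_left (by rw [e5] at l2; linarith) B0)
  by_cases hn : p ∣ n
  · have s2 := SS_add (G := PSL(2, F)) c2
    have s3 := h.SS_le (c2.mul_dvd_of_dvd_of_dvd hn c3)
    refine Or.inr (le_antisymm (Nat.le_of_dvd Nat.card_pos h.dvd) (e5 ▸ a1 (Nat.le_of_mul_le_mul_left (c := q * A)
      (by rw [e5, e6] at l3; linarith only [l3]) (Nat.mul_pos (by omega) A0)) (by omega) (h5.trans ?_)))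
    gcongr <;> exact Nat.gcd_le_right _ (by omega)
  · have s3 := h.SS_le c3
    rw [hk, ((hp.coprime_iff_not_dvd.2 hn).symm.pow_right k).gcd_eq_one, one_mul] at h5
    obtain ⟨b1, b2⟩ := a2 (by omega) (h5.trans (by gcongr; exact Nat.gcd_le_right _ d0))
    rw [b1, b2, mul_one, mul_one] at h5
    have h6 := h.pos
    have h7 := Nat.gcd_le_right n d0
    by_contra! h8
    obtain rfl : n = 2 := by omega
    obtain rfl : d = 2 := Nat.le_antisymm (by omega) (by
      by_contra h9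
      rw [show d = 1 by omega] at h5
      simp at h5)
    have := Nat.coprime_two_left.1 b1
    have := Nat.coprime_two_left.1 b2
    simp only [Nat.odd_iff] at *
    omega

theorem sz_arith {q A B C a b c s t u v n : ℕ} (hq : 8 ≤ q) (hA : A + 1 = q) (hB : B * C = q ^ 2 + 1)
    (hC : B + C = 2 * q + 2) (ha : a ≤ A) (hb : b ≤ B) (hc : c ≤ C) (a0 : 0 < a) (b0 : 0 < b) (c0 : 0 < c)
    (h1 : (a - 1) * (q ^ 2 * B * C) ≤ 2 * s) (h2 : (b - 1) * (q ^ 2 * A * C) ≤ 4 * t)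
    (h3 : (c - 1) * (q ^ 2 * A * B) ≤ 4 * u) :
    ((q ^ 2 - 1) * (B * C) ≤ v → v + s + t + u + 1 ≤ n → n ≤ q ^ 2 * a * b * c → q ^ 2 * A * B * C ≤ n) ∧
      (s + t + u + 1 ≤ n → n ≤ 2 * a * b * c → n ≤ 2) := by
  have q2 : 64 ≤ q ^ 2 := by nlinarith
  have e1 : a * b ≤ A * B := Nat.mul_le_mul ha hb
  have e2 : a * c ≤ A * C := Nat.mul_le_mul ha hc
  have e3 : b * c ≤ B * C := Nat.mul_le_mul hb hc
  obtain ⟨a, rfl⟩ := Nat.exists_eq_add_of_lt a0
  obtain ⟨b, rfl⟩ := Nat.exists_eq_add_of_lt b0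
  obtain ⟨c, rfl⟩ := Nat.exists_eq_add_of_lt c0
  simp only [zero_add, Nat.add_sub_cancel] at *
  refine ⟨fun h4 h5 h6 => ?_, fun h5 h6 => ?_⟩
  · have e : 4 * ((q ^ 2 - 1) * (B * C)) + 4 = q ^ 2 * (2 * (B * C) + A * (B + C)) := by
      rw [hB, hC, ← hA, show (A + 1) ^ 2 = A ^ 2 + 2 * A + 1 by ring, Nat.add_sub_cancel]; ring
    generalize q ^ 2 = Q at *
    have h7 : Q * (2 * (a + 1) * (B * C) + (b + 1) * (A * C) + (c + 1) * (A * B)) ≤ 4 * n := by
      linarith only [e, h1, h2, h3, h4, h5]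
    have h8 : 2 * (a + 1) * (B * C) + (b + 1) * (A * C) + (c + 1) * (A * B) ≤ 4 * ((a + 1) * (b + 1) * (c + 1)) :=
      Nat.le_of_mul_le_mul_left (c := Q) (by linarith only [h7, h6]) (by omega)
    have f1 := Nat.mul_le_mul_left (a + 1) e3
    have f2 := Nat.mul_le_mul_left (b + 1) e2
    have f3 := Nat.mul_le_mul_left (c + 1) e1
    have g1 : B * C ≤ (b + 1) * (c + 1) :=
      Nat.le_of_mul_le_mul_left (c := a + 1) (by linarith only [h8, f2, f3]) (by omega)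
    have g2 : A * C ≤ (a + 1) * (c + 1) :=
      Nat.le_of_mul_le_mul_left (c := b + 1) (by linarith only [h8, f1, f3]) (by omega)
    obtain rfl : B = b + 1 := le_antisymm (Nat.le_of_mul_le_mul_right
      ((Nat.mul_le_mul_left B hc).trans g1) c.succ_pos) hb
    obtain rfl : A = a + 1 := le_antisymm (Nat.le_of_mul_le_mul_right
      ((Nat.mul_le_mul_left A hc).trans g2) c.succ_pos) ha
    obtain rfl : C = c + 1 := le_antisymm (Nat.le_of_mul_le_mul_left g1 b.succ_pos) hc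
    linarith only [h7]
  · have f1 : a * (64 * ((b + 1) * (c + 1))) ≤ a * (q ^ 2 * B * C) := by rw [mul_assoc]; gcongr
    have f2 : b * (64 * ((a + 1) * (c + 1))) ≤ b * (q ^ 2 * A * C) := by rw [mul_assoc]; gcongr
    have f3 : c * (64 * ((a + 1) * (b + 1))) ≤ c * (q ^ 2 * A * B) := by rw [mul_assoc]; gcongr
    obtain rfl : a = 0 := by
      by_contra h8
      have : (b + 1) * (c + 1) ≤ a * ((b + 1) * (c + 1)) := Nat.le_mul_of_pos_left _ (by omega)
      nlinarith only [this, f1, h1, h5, h6]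
    obtain rfl : b = 0 := by
      by_contra h8
      have : (0 + 1) * (c + 1) ≤ b * ((0 + 1) * (c + 1)) := Nat.le_mul_of_pos_left _ (by omega)
      nlinarith only [this, f2, h2, h5, h6]
    obtain rfl : c = 0 := by
      by_contra h8
      nlinarith only [Nat.pos_of_ne_zero h8, f3, h3, h5, h6]
    omega

theorem FC.sz [IsSimpleGroup G] (hG : ¬ IsMulCommutative G) {F : Type*} [Field F] [Fintype F] {m : ℕ} (hm : 1 ≤ m)
    (hF : Fintype.card F = 2 ^ (2 * m + 1)) (M : Sz.Model F G) (h : FC G n) : n = 1 ∨ n = Nat.card G := by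
  have ht := Sz.exists_ne_zero_ne_one hm hF
  rw [← Nat.card_eq_fintype_card] at hF
  obtain ⟨g, y, hg, hy, e1, e2, -⟩ := M.exists_tori hm hF
  have lb : ∀ {A : Subgroup G} {k : ℕ}, Sz.IsTorus A k → (n.gcd (Nat.card A) - 1) * Nat.card G ≤
      k * Nat.card A * (SS G (n.gcd (Nat.card A))).ncard := fun T => by
    rw [← T.card_norm]
    exact SS_lb (fun y hy y1 g hg => T.mem_normalizer hy y1 hg) (le_ncard_pow' (Nat.gcd_dvd_right _ _))
  have l1 := lb (M.isTorus_H ht)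
  have l2 := lb (hg.isTorus hm hF)
  have l3 := lb (hy.isTorus hm hF)
  have o2 := (hg.isTorus hm hF).odd
  have o3 := (hy.isTorus hm hF).odd
  have l4 := SS_lb (A := M.Up M.inf) (D := MulAction.stabilizer G M.inf) (a := 4) (b := Nat.card F ^ 2)
    (fun y hy y1 g hg => (M.eq_of_mem_Up (M.conj_mem_Up.2 hy) (by simpa using y1) (M.mem_Up.1 hg).1).symm) (by
      rw [← M.card_Up M.inf]
      exact Set.ncard_le_ncard (s := (M.Up M.inf : Set G)) fun x hx => ⟨hx, (M.mem_Up.1 hx).2⟩)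
  have e3 := M.card_G
  have e4 := M.coprime_tori
  have o1 := M.odd_card_sub_one
  rw [← M.normalizer_Up, M.Up_inf, M.normalizer_U, M.card_B] at l4
  rw [M.card_H] at l1
  have hq : 8 ≤ Nat.card F := hF ▸ Nat.pow_le_pow_right two_pos (show 3 ≤ 2 * m + 1 by omega)
  have hr : (2 ^ (m + 1)) ^ 2 = 2 * Nat.card F := by rw [hF]; ring
  have hr' : 2 ^ (m + 1) ≤ Nat.card F := hF ▸ Nat.pow_le_pow_right two_pos (by omega)
  rw [← hF] at e1 e2
  have hF2 : Nat.card F ^ 2 = 2 ^ (4 * m + 2) := by rw [hF]; ring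
  have ev := M.even_card
  generalize Nat.card (centralizer ({g} : Set G)) = B at *
  generalize Nat.card (centralizer ({y} : Set G)) = C at *
  have hBC : B.Coprime C := by
    rw [show B = 2 ^ (m + 2) + C by rw [pow_succ]; omega, Nat.coprime_add_self_left]
    exact (Nat.coprime_two_left.2 o3).pow_left _
  generalize Nat.card F = q at *
  generalize 2 ^ (m + 1) = r at *
  obtain ⟨A, rfl⟩ := Nat.exists_eq_add_of_le' (show 1 ≤ q by omega)
  simp only [Nat.add_sub_cancel] at *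
  have e5 : B * C = (A + 1) ^ 2 + 1 := by
    obtain ⟨w, hw⟩ := Nat.exists_eq_add_of_le hr'
    rw [e1, e2, hw, Nat.add_sub_cancel_left]; rw [hw] at hr; linarith only [hr]
  rw [← e5, ← mul_assoc] at e3
  rw [← e5] at e4
  have A0 : 0 < A := by omega
  have c1 := hBC.coprime_dvd_left (Nat.gcd_dvd_right n B) |>.coprime_dvd_right (Nat.gcd_dvd_right n C)
  have c2 := (e4.coprime_dvd_left (Nat.gcd_dvd_right n A)).coprime_dvd_right
    (Nat.mul_dvd_mul (Nat.gcd_dvd_right n B) (Nat.gcd_dvd_right n C))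
  have c3 := c2.mul_dvd_of_dvd_of_dvd (Nat.gcd_dvd_left n A)
    (c1.mul_dvd_of_dvd_of_dvd (Nat.gcd_dvd_left n B) (Nat.gcd_dvd_left n C))
  have s1 := SS_add (G := G) c1
  have s2 := SS_add (G := G) c2
  have h5 := le_of_dvd_mul (e3 ▸ h.dvd) h.pos
  obtain ⟨a1, a2⟩ := sz_arith (n := n) (s := (SS G (n.gcd A)).ncard) (t := (SS G (n.gcd B)).ncard)
    (u := (SS G (n.gcd C)).ncard) (v := (SS G 4).ncard) hq rfl e5 (by omega) (Nat.gcd_le_right n A0)
    (Nat.gcd_le_right n o2.pos) (Nat.gcd_le_right n o3.pos) (Nat.gcd_pos_of_pos_right n A0)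
    (Nat.gcd_pos_of_pos_right n o2.pos) (Nat.gcd_pos_of_pos_right n o3.pos)
    (Nat.le_of_mul_le_mul_left (by rw [e3] at l1; linarith only [l1]) A0)
    (Nat.le_of_mul_le_mul_left (by rw [e3] at l2; linarith only [l2]) o2.pos)
    (Nat.le_of_mul_le_mul_left (by rw [e3] at l3; linarith only [l3]) o3.pos)
  by_cases hn : 4 ∣ n
  · have c4 : Nat.Coprime (2 ^ 2) _ := (Nat.coprime_two_left.2 ((o1.mul (o2.mul o3)).of_dvd_nat (Nat.mul_dvd_mul
      (Nat.gcd_dvd_right n A) (Nat.mul_dvd_mul (Nat.gcd_dvd_right n B) (Nat.gcd_dvd_right n C))))).pow_left 2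
    have s3 := SS_add (G := G) c4
    have s4 := h.SS_le (c4.mul_dvd_of_dvd_of_dvd hn c3)
    refine Or.inr (le_antisymm (Nat.le_of_dvd Nat.card_pos h.dvd) (e3 ▸ a1 (Nat.le_of_mul_le_mul_left
      (c := (A + 1) ^ 2 * A) (by rw [e3] at l4; linarith only [l4]) (by positivity))
      (by norm_num at s3 s4; omega) (h5.trans ?_)))
    gcongr; exact Nat.gcd_le_right _ (by positivity)
  · have s3 := h.SS_le c3
    obtain ⟨j, -, hj⟩ := (Nat.dvd_prime_pow Nat.prime_two).1 (hF2 ▸ Nat.gcd_dvd_right n ((A + 1) ^ 2))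
    have h6 : n ≤ 2 := a2 (by omega) (h5.trans (by
      gcongr
      rw [← hF2] at hj
      rw [hj]
      refine (Nat.pow_le_pow_right two_pos (not_lt.1 fun h7 => hn ?_)).trans_eq (pow_one 2)
      exact (pow_dvd_pow 2 h7).trans (hj ▸ Nat.gcd_dvd_left _ _)))
    have h7 := h.pos
    refine Or.inl (h.eq_one' hG Nat.prime_two (k := 1) ?_)
    interval_cases n <;> simp

end Cfsg.Lib.NG
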