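import Cfsg.Agent.Lib.NG.FrobS
import Cfsg.Agent.Lib.NG.TitsOrd

/-! Frobenius' conjecture for the simple N-groups. -/

set_option autoImplicit false

namespace Cfsg.Lib.NG

open Subgroup Cfsg.Lib.BG Cfsg.Lib.Transfer Cfsg.Lib.FGS Cfsg.Lib.PSL2 Cfsg.Lib.Small
open scoped MatrixGroups

variable {G : Type*} [Group G] [Finite G] {n p : ℕ}

section Small
variable [IsSimpleGroup G] (hG : ¬ IsMulCommutative G) (h : FC G n)
include hG h

set_option synthInstance.maxSize 1000 in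
theorem FC.A7 (hN : Nat.card G = 2520) : n = 1 ∨ n = 2520 := by
  obtain ⟨a1, a2⟩ := h.sieve hG (B := 50) (p := 7) (m := 120) (Φ := fun _ => True) (by norm_num) hN (by decide)
    (by decide) (by decide) (fun _ _ _ _ => trivial) (by decide +kernel)
  obtain ⟨b1, b2⟩ := h.sieve hG (B := 50) (p := 5) (m := 126) (Φ := fun _ => True) (by norm_num) hN (by decide)
    (by decide) (by decide) (fun _ _ _ _ => trivial) (by decide +kernel)
  have s := SS_add (G := G) (show Nat.Coprime 7 5 by norm_num)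
  exact (by decide +kernel : ∀ n ∈ divs 50 2520, (7 ∣ n ∨ n % 7 = 1) → (5 ∣ n ∨ n % 5 = 1) → (7 ∣ n → 720 < n) →
    (5 ∣ n → 504 < n) → (7 * 5 ∣ n → 1224 < n) → ¬ (2 ^ 2 ∣ n ∧ 2 * n ∣ 2520) → n = 1 ∨ n = 2520) n
    (mem_divs (by decide) (by decide) (hN ▸ h.dvd)) a1 b1 (fun e => by have := h.SS_le e; omega)
    (fun e => by have := h.SS_le e; omega) (fun e => by have := h.SS_le e; omega) (h.two hG hN 2 (by decide))

set_option synthInstance.maxSize 1000 in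
theorem FC.M11 (e : G ≃* Spor.M11) : n = 1 ∨ n = 7920 := by
  have hN : Nat.card G = 7920 := (Nat.card_congr e.toEquiv).trans Mathieu.card_M11
  obtain ⟨a1, a2⟩ := h.sieve hG (B := 89) (p := 11) (m := 144) (Φ := fun _ => True) (by norm_num) hN (by decide)
    (by decide) (by decide) (fun _ _ _ _ => trivial) (by decide +kernel)
  obtain ⟨b1, b2⟩ := h.sieve hG (B := 89) (p := 5) (m := 396) (Φ := fun c => c = 1 ∨ c = 1584) (by norm_num) hN
    (by decide) (by decide) (by decide) (fun x _ c hc => by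
      obtain ⟨q, hq, -, -, -, -, h1⟩ := Mathieu.clsS11.exists_rep (mem_top (e x))
      rw [top_inf_eq, Nat.card_congr (e.toEquiv.subtypeEquiv fun y => by
        simp [mem_centralizer_singleton_iff, ← map_mul] : 𝐂[x] ≃ 𝐂[e x]).symm, hc] at h1
      have := (by decide +kernel : ∀ q ∈ Mathieu.c11, q.2 % 5 = 0 → q.2 = 5 ∨ q.2 = 7920) q hq (by omega)
      omega) (by decide +kernel)
  have s := SS_add (G := G) (show Nat.Coprime 11 5 by norm_num)
  exact (by decide +kernel : ∀ n ∈ divs 89 7920, (11 ∣ n ∨ n % 11 = 1) → (5 ∣ n ∨ n % 5 = 1) → (11 ∣ n → 1440 < n) →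
    (5 ∣ n → 1584 < n) → (11 * 5 ∣ n → 3024 < n) → ¬ (2 ^ 3 ∣ n ∧ 2 * n ∣ 7920) → n = 1 ∨ n = 7920) n
    (mem_divs (by decide) (by decide) (hN ▸ h.dvd)) a1 b1 (fun e => by have := h.SS_le e; omega)
    (fun e => by have := h.SS_le e; omega) (fun e => by have := h.SS_le e; omega) (h.two hG hN 3 (by decide))

theorem FC.L33 (e : G ≃* SL(3, ZMod 3)) : n = 1 ∨ n = 5616 := by
  have hN : Nat.card G = 5616 := (Nat.card_congr e.toEquiv).trans card_SL33
  obtain ⟨a1, a2⟩ := h.sieve hG (B := 75) (p := 13) (m := 144) (Φ := fun _ => True) (by norm_num) hN (by decide)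
    (by decide) (by decide) (fun _ _ _ _ => trivial) (by decide +kernel)
  exact (by decide +kernel : ∀ n ∈ divs 75 5616, (13 ∣ n ∨ n % 13 = 1) → (13 ∣ n → 1728 < n) →
    ¬ (2 ^ 3 ∣ n ∧ 2 * n ∣ 5616) → ¬ (3 ∣ n ∧ 3 * n ∣ 5616) → (n ∣ 3 ^ 3 → n = 1) → n = 1 ∨ n = 5616) n
    (mem_divs (by decide) (by decide) (hN ▸ h.dvd)) a1 (fun e => by have := h.SS_le e; omega)
    (h.two hG hN 3 (by decide)) ((h.of_equiv e).three card_SL33 (a := ⟨!![1, 1, 0; 0, 1, 0; 0, 0, 1], by decide⟩)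
      (b := ⟨!![1, 0, 1; 0, 1, 0; 0, 0, 1], by decide⟩) (Subtype.ext (by decide +kernel))
      (Subtype.ext (by decide +kernel)) (by decide +kernel) (fun h => absurd (congrArg (· 0 1) h) (by decide))
      (fun h => absurd (congrArg (· 0 2) h) (by decide)) (fun h => absurd (congrArg (· 0 2) h) (by decide))
      fun h => absurd (congrArg (· 0 2) h) (by decide +kernel))
    (h.eq_one' hG Nat.prime_three)

open Cfsg.Lib.Asch Cfsg.Agent.S1897 Matrix in
theorem FC.U33 (hN : Nat.card G = 6048) (e : G ≃* SU 3 F9 3) : n = 1 ∨ n = 6048 := by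
  obtain ⟨a1, a2⟩ := h.sieve hG (B := 78) (p := 7) (m := 288) (Φ := fun _ => True) (by norm_num) hN (by decide)
    (by decide) (by decide) (fun _ _ _ _ => trivial) (by decide +kernel)
  exact (by decide +kernel : ∀ n ∈ divs 78 6048, (7 ∣ n ∨ n % 7 = 1) → (7 ∣ n → 1728 < n) →
    ¬ (2 ^ 4 ∣ n ∧ 2 * n ∣ 6048) → ¬ (3 ∣ n ∧ 3 * n ∣ 6048) → (n ∣ 2 ^ 5 → n = 1) → n = 1 ∨ n = 6048) n
    (mem_divs (by decide) (by decide) (hN ▸ h.dvd)) a1 (fun e => by have := h.SS_le e; omega)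
    (h.two hG hN 4 (by decide)) ((h.of_equiv e).three ((Nat.card_congr e.toEquiv).symm.trans hN)
      (a := el [[0, 1, 0], [0, 0, 1], [1, 0, 0]] (by rw [det_fin_three]; decide +kernel) (by decide +kernel))
      (b := el [[4, 3, 3], [3, 4, 3], [3, 3, 4]] (by rw [det_fin_three]; decide +kernel) (by decide +kernel))
      (by decide +kernel) (by decide +kernel) (by decide +kernel) (by decide +kernel) (by decide +kernel)
      (by decide +kernel) (by decide +kernel))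
    (h.eq_one' hG Nat.prime_two)

end Small

theorem Hyp.not_cyclic (h : Hyp G) [hp : Fact p.Prime] (p2 : p ≠ 2) {t : G} (t2 : t * t = 1) (t1 : t ≠ 1)
    (hd : p ∣ Nat.card 𝐂[t]) {k : ℕ} (hk : p ^ k ∣ Nat.card G) (h2 : ¬ 2 ^ 12 ∣ Nat.card G)
    (ha : ∀ a < 12, ∀ b < a, ¬ p ^ k ∣ 2 ^ a - 2 ^ b) {P : Subgroup G} (hP : Syl p P ⊤) : ¬ IsCyclic P := fun hc => by
  obtain ⟨ρ, hρ, o⟩ := exists_mem_orderOf_eq_prime hp.out hd
  have o' := (Nat.card_zpowers ρ).trans o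
  obtain ⟨g, -, hg⟩ := hP.exists_le_conj (IsPGroup.of_card (o'.trans (pow_one p).symm)) le_top
  replace hc := (cyclic_conj g).2 hc
  replace hP : Syl p (g ⋆ P) ⊤ := hP.conj_top g
  generalize g ⋆ P = P at *
  obtain ⟨P, rfl⟩ := Syl.top_iff_sylow.1 hP
  have h3 := hasNormalPComplement_iff.1 (hasNormalPComplement_cent_of_cyclic P hc hg (ne_bot_of_prime (o' ▸ hp.out)))
  have hcm : ∀ a ∈ (P : Subgroup G), ∀ b ∈ (P : Subgroup G), a * b = b * a := fun a ha b hb => setLike_mul_comm ha hb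
  have h4 : (P : Subgroup G) ≤ 𝐂(zpowers ρ) := fun a ha => mem_cent.2 fun b hb => hcm _ (hg hb) _ ha
  have ot : orderOf t = 2 := orderOf_eq_prime (by rwa [sq]) t1
  have h5 : t ∈ 𝐎({p}ᶜ, 𝐂(zpowers ρ)) := h3.mem_of_normal (pcore_nml _ _).norm
    (by rw [cent_zpowers]; exact mem_cent1.2 (mem_cent1.1 hρ).symm) fun q hq hq' e => by
      rw [ot, Nat.prime_dvd_prime_iff_eq hq Nat.prime_two] at hq'
      exact p2 (e.symm.trans hq')
  obtain ⟨j, hj⟩ := hP.pgroup.exists_card_eq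
  obtain ⟨S, hS, h6⟩ := Syl.exists_inv 2 (h4.trans (pcore_nml {p}ᶜ _).norm) (by
    rw [hj]; exact (hp.out.coprime_iff_not_dvd.2 (h3.pi.not_dvd hp.out rfl)).pow_left _) (Or.inl inferInstance)
  have h7 := h.chp _ ⟨S, hS.pgroup, hS.ne_bot' (ot ▸ orderOf_dvd_natCard _ h5), rfl⟩
  have hQ : IsPGroup 2 (pCoreOf 2 𝐍(S)) := Loc.core_pgroup 2 _
  have h8 : (P : Subgroup G) ≤ 𝐍(pCoreOf 2 𝐍(S)) := h6.trans (Core.le_normalizer_pCoreOf 2 _)
  generalize pCoreOf 2 𝐍(S) = Q at *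
  obtain ⟨a, ea⟩ := hQ.exists_card_eq
  obtain ⟨b, hb, eb⟩ := (Nat.dvd_prime_pow Nat.prime_two).1 (ea ▸ card_dvd (inf_le_left : Q ⊓ 𝐂[ρ] ≤ Q))
  have h9 := card_dvd_of_conj_free (Q := P) (S := (Q : Set G) \ (Q ⊓ 𝐂[ρ] : Subgroup G)) (fun u hu y hy =>
    ⟨conj_mem_of_norm (h8 hu) hy.1, fun e => hy.2 ⟨hy.1, by
      have := cent_zpowers ρ ▸ h4 hu
      simpa [mul_assoc] using mul_mem (mul_mem (inv_mem this) e.2) this⟩⟩)
    fun u hu y hy e => by_contra fun u1 => hy.2 ⟨hy.1, by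
      obtain ⟨i, rfl⟩ : ρ ∈ zpowers u := (le_total_of_isCyclic hP.pgroup hc hg (zpowers_le.2 hu)).elim
        (fun e => e (mem_zpowers ρ)) fun e => (zpowers_eq_of_prime (o' ▸ hp.out) (e (mem_zpowers u)) u1).ge (mem_zpowers ρ)
      exact mem_cent1.2 (Commute.zpow_right e.symm i)⟩
  rw [Set.ncard_sdiff (SetLike.coe_subset_coe.2 inf_le_left), show (Q : Set G).ncard = _ from ea,
    show ((Q ⊓ 𝐂[ρ] : Subgroup G) : Set G).ncard = _ from eb] at h9
  obtain rfl : b = a := by_contra fun e => ha a (not_le.1 fun h => h2 ((pow_dvd_pow 2 h).trans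
    (ea ▸ card_subgroup_dvd_card Q))) b (by omega) ((P.pow_dvd_card_of_pow_dvd_card hk).trans h9)
  have h10 : Q ≤ 𝐂[ρ] := (eq_of_le_of_card_le inf_le_left (by rw [ea, eb])).ge.trans inf_le_right
  have h11 := orderOf_dvd_natCard _ (h7 (mem_cent.2 fun y hy => mem_cent1.1 (h10 hy)))
  rw [o, ea] at h11
  exact p2 ((Nat.prime_dvd_prime_iff_eq hp.out Nat.prime_two).1 (hp.out.dvd_of_dvd_pow h11))

theorem tits_cfg {D : Set ℕ} {m e c : ℕ} {w : ℤ} {l : List ℤ} (h : Cfg 17971200 D 13 m e c w l)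
    (h' : (m, e, c, w, l) ∈ cfgs 4240 17971200 13) (hc : c % 2 = 1) : m = 230400 ∧ c = 1 := by
  have h1 := h.card
  have h2 : (m, e, c, w, l) ∈ cfgs3 17971200 (divs 4240 17971200) ((divs 4240 17971200).filter (primeB 4240)) 13 m e
      (17971200 / (13 * e * m)) := by
    simp only [cfgs, List.mem_flatMap] at h'
    obtain ⟨m', -, e', -, h'⟩ := h'
    have h3 := h'
    simp only [cfgs3, List.mem_flatMap, List.mem_map, Prod.mk.injEq] at h3
    obtain ⟨_, -, _, -, rfl, rfl, -⟩ := h3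
    exact h'
  have h3 := (by decide +kernel : ∀ m ∈ divs 4240 17971200, ∀ e ∈ [2, 3, 4, 6, 12], m % 13 = 1 →
    17971200 % (13 * e * m) = 0 → 17971200 / (13 * e * m) % 2 = 1 → (m, e) ∈ [(230400, 6), (230400, 2), (30720, 3)]) m
    (mem_divs (by decide) (by decide) ⟨13 * e * c, by rw [h1]; ring⟩) e (by
      have h3 := h.dvd
      have h4 := h.two_le
      have := Nat.le_of_dvd (by decide) h3
      interval_cases e <;> simp_all) h.modm (by rw [h1, Nat.mul_mod_right]) (by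
      rwa [h1, Nat.mul_div_cancel_left _ (Nat.pos_of_ne_zero fun e => by simp [e] at h1)])
  simp only [List.mem_cons, Prod.mk.injEq, List.not_mem_nil, or_false] at h3
  rcases h3 with ⟨rfl, rfl⟩ | ⟨rfl, rfl⟩ | ⟨rfl, rfl⟩
  · omega
  · exact absurd h2 (List.eq_nil_iff_forall_not_mem.1 (List.isEmpty_iff.1 (by decide +kernel)) _)
  · exact absurd h2 (List.eq_nil_iff_forall_not_mem.1 (List.isEmpty_iff.1 (by decide +kernel)) _)

set_option synthInstance.maxSize 1000 in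
theorem FC.tits (hT : TitsCfg G) (h : FC G n) : n = 1 ∨ n = 17971200 := by
  have hN := hT.card
  obtain ⟨T, l, z, x, a, f, m, u, hB⟩ := hT.exists_bu
  have := hB.hyp.simple
  have hG := hB.hyp.nab
  haveI := Fact.mk (show Nat.Prime 13 by norm_num)
  obtain ⟨y, e, -, c, -, -, -, δ, θ, L, hy, -, -, hc, -, h1, h2⟩ := by
    classical exact exists_mem_cfgs (B := 4240) (p := 13) hG Fact.out hN (by decide) (by decide) (by decide)
  obtain ⟨a0, rfl⟩ := tits_cfg h1 h2 (by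
    by_contra h1
    obtain ⟨t, ht, o⟩ := exists_mem_orderOf_eq_prime Nat.prime_two (show 2 ∣ Nat.card 𝐂[y] by omega)
    have h2 := orderOf_dvd_natCard _ (mem_cent1.2 (mem_cent1.1 ht).symm)
    rcases hB.two_cl (g := t) (by rw [← sq, ← o, pow_orderOf_eq_one]) (by rintro rfl; simp at o) with e | e <;>
      rw [hy, card_cent1_of_isConj e] at h2
    · rw [hB.cardC] at h2; omega
    · rw [hB.cardCt] at h2; omega)
  obtain ⟨a1, a2⟩ := h.selfc Fact.out hN (by decide) hy hc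
  rw [a0] at a2
  have odd : ∀ p k, p.Prime → p ≠ 2 → ∀ t : G, t * t = 1 → t ≠ 1 → p ∣ Nat.card 𝐂[t] → p ^ k ∣ 17971200 →
      (∀ a < 12, ∀ b < a, ¬ p ^ k ∣ 2 ^ a - 2 ^ b) → ¬ (p ∣ n ∧ p * n ∣ 17971200) :=
    fun p k hp p2 t t2 t1 h1 h2 h3 ⟨h4, h5⟩ => by
      haveI := Fact.mk hp
      obtain ⟨P, hP⟩ := Syl.exists p (⊤ : Subgroup G)
      exact hB.hyp.not_cyclic p2 t2 t1 h1 (hN ▸ h2) (by rw [hN]; decide) h3 hP
        ((h.cyclic_or (hN ▸ h5) h4 hP).resolve_right fun e => p2 e.1)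
  refine (by decide +kernel : ∀ n ∈ divs 4240 17971200, (13 ∣ n ∨ n % 13 = 1) → (13 ∣ n → 2764800 < n) →
    ¬ (2 ∣ n ∧ 2 * n ∣ 17971200) → ¬ (3 ∣ n ∧ 3 * n ∣ 17971200) → ¬ (5 ∣ n ∧ 5 * n ∣ 17971200) →
    (n ∣ 3 ^ 3 → n = 1) → n = 1 ∨ n = 17971200) n
    (mem_divs (by decide) (by decide) (hN ▸ h.dvd)) a1 (fun e => by have := h.SS_le e; omega) (fun ⟨h1, h2⟩ => ?_)
    (odd 3 3 Nat.prime_three (by decide) _ hB.t2 (fun e => hB.tl (e ▸ one_mem l)) (by rw [hB.cardCt]; decide)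
      (by decide) (by decide)) (odd 5 2 Nat.prime_five (by decide) _ hB.zz hB.ne (by rw [hB.cardC]; decide)
      (by decide) (by decide)) (h.eq_one' hG Nat.prime_three)
  obtain ⟨P, hP, hV⟩ := Syl.exists_ge (M := ⊤) (IsPGroup.of_card (p := 2) (n := 5) hB.v32) le_top
  have hc : Nat.card P = 2 ^ (7 + 4) := (hP.card_eq (Syl.mk' le_top hB.syl.pgroup hB.syl.idx)).trans hB.cardT
  obtain ⟨A, hA, h3, h4⟩ : ∃ A ≤ P, IsCyclic A ∧ 2 ^ 10 ≤ Nat.card A := by
    rcases h.cyclic_or (hN ▸ h2) h1 hP with e | e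
    · exact ⟨P, le_rfl, e, by rw [hc]; decide⟩
    · obtain ⟨b, hb, o, -⟩ := e.exists_cyclic hc
      exact ⟨_, zpowers_le.2 hb, inferInstance, by rw [Nat.card_zpowers, o]⟩
  have h5 := BG.card_mul_relIndex hA
  have h6 := relIndex_le_of_le_right (H := A) hV (relIdx_ne _ _)
  have h7 := BG.card_mul_relIndex (inf_le_right : A ⊓ VV l z ≤ _)
  rw [inf_relIndex_right, hB.v32] at h7
  have h8 : ¬ 4 ≤ Nat.card ↥(A ⊓ VV l z) := fun e => PGroup.elemAb_not_isCyclic (p := 2)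
    (PGroup.elemAb_of_le hB.ea inf_le_right) e (cyclic_of_le h3 inf_le_left)
  rw [hc] at h5
  have h9 : A.relIndex P ≤ 2 := Nat.le_of_mul_le_mul_left (c := 2 ^ 10)
    ((Nat.mul_le_mul_right _ h4).trans (h5.le.trans (by norm_num))) (by norm_num)
  nlinarith only [h6, h7, h8, h9]

theorem FC.simple [IsSimpleGroup G] (hG : IsNGroup G)
    (hl : ¬ IsMulCommutative G → NList G) (h : FC G n) : n = 1 ∨ n = Nat.card G := by
  by_cases hc : IsMulCommutative G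
  · exact (Nat.dvd_prime (Group.is_simple_iff_prime_card.1 inferInstance)).1 h.dvd
  have key : ∀ {X : Type} [Group X] (e : G ≃* X), n = 1 ∨ n = Nat.card X → n = 1 ∨ n = Nat.card G :=
    fun e h => Nat.card_congr e.toEquiv ▸ h
  rcases hl hc with ⟨F, _, _, h4, ⟨e⟩⟩ | ⟨F, _, _, m, hm, hF, ⟨e⟩⟩ | ⟨F, _, _, k, hk, hF, ⟨e⟩⟩ |
    ⟨F, _, _, hF, ⟨e⟩⟩ | ⟨F, _, _, hF, ⟨e⟩⟩ | ⟨⟨e⟩⟩ | ⟨⟨e⟩⟩ | hT
  · exact key e ((h.of_equiv e).psl (Nat.card_eq_fintype_card (α := F) ▸ h4))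
  · haveI := (Sz.lieModel hF).finite
    haveI := e.symm.isSimpleGroup
    exact key e ((h.of_equiv e).sz (fun h => hc ⟨⟨fun a b => e.injective (by
      rw [map_mul, map_mul, mul_comm'])⟩⟩) hm hF (Sz.lieModel hF))
  · exact absurd hG (not_isNGroup_U3 hk hF e)
  · exact key (e.trans (equiv_L33 hF).some) (card_SL33 ▸ h.L33 hc (e.trans (equiv_L33 hF).some))
  · exact key e (card_U33 hF ▸ h.U33 hc ((Nat.card_congr e.toEquiv).trans (card_U33 hF)) (e.trans (equiv_SU33 hF).some))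
  · exact key e (Grp.card_alt_fin 5 ▸ h.A7 hc ((Nat.card_congr e.toEquiv).trans (Grp.card_alt_fin 5)))
  · exact key e (Mathieu.card_M11 ▸ h.M11 hc e)
  · exact hT.card ▸ h.tits hT

end Cfsg.Lib.NG
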