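import Cfsg.Agent.Lib.NG.Three
import Cfsg.Agent.Lib.Cyc.PermPrime

/-! Every group of Thompson's list has an element `x` of odd prime power order which generates an insoluble group
with each conjugate outside `⟨x⟩`. -/

set_option autoImplicit false

namespace Cfsg.Lib.NG

open Subgroup Matrix MulAction Cfsg.Lib.PSL2
open scoped MatrixGroups LinearAlgebra.Projectivization

variable {G G' : Type*} [Group G] [Group G'] {x y g : G}

/-- `x` generates an insoluble group with each of its conjugates outside `⟨x⟩`. -/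
def Isolated (x : G) : Prop :=
  ∀ g : G, Group.IsSolvable (Subgroup.closure {x, g * x * g⁻¹}) → g * x * g⁻¹ ∈ zpowers x

/-- An isolated element of odd prime power order whose cyclic group is normalised by an element of another order. -/
def HasIso (G : Type*) [Group G] : Prop := ∃ (x y : G) (p r k : ℕ), p.Prime ∧ p ≠ 2 ∧ r.Prime ∧ p ≠ r ∧
  orderOf x = p ^ k ∧ x ≠ 1 ∧ orderOf y = r ∧ Isolated x ∧ y * x * y⁻¹ ∈ zpowers x

theorem mem_normalizer_zpowers [Finite G] : g ∈ normalizer (zpowers x : Set G) ↔ g * x * g⁻¹ ∈ zpowers x :=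
  ⟨fun h => (mem_normalizer_iff.1 h x).1 (mem_zpowers x), fun h => mem_normalizer_fintype (by
    rintro _ ⟨k, rfl⟩
    exact (conj_zpow (a := g) (b := x) (i := k)) ▸ zpow_mem h k)⟩

theorem exists_lift [Finite G] {f : G →* G'} (hf : Function.Surjective f) {p : ℕ} (hp : p.Prime) {y : G'}
    (hy : ∃ k, orderOf y = p ^ k) : ∃ x, f x = y ∧ ∃ k, orderOf x = p ^ k := by
  have := Fact.mk hp
  have := Finite.of_surjective f hf
  obtain ⟨Q, hQ⟩ := (isPGroup_zpowers hy).exists_le_sylow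
  obtain ⟨P, rfl⟩ := Sylow.mapSurjective_surjective hf p Q
  obtain ⟨x, h1, h2⟩ := hQ (mem_zpowers y)
  exact ⟨x, h2, exists_orderOf_of_mem P.isPGroup' h1⟩

theorem HasIso.of_equiv (e : G ≃* G') (h : HasIso G') : HasIso G := by
  obtain ⟨x, y, p, r, k, h1, h2, h3, h4, h5, h6, h7, h8, h9⟩ := h
  obtain ⟨x, rfl⟩ := e.surjective x
  obtain ⟨y, rfl⟩ := e.surjective y
  have key : ∀ g, e g * e x * (e g)⁻¹ ∈ zpowers (e x) → g * x * g⁻¹ ∈ zpowers x := fun g ⟨k, hk⟩ =>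
    ⟨k, e.injective (by simpa using hk)⟩
  refine ⟨x, y, p, r, k, h1, h2, h3, h4, e.orderOf_eq x ▸ h5, fun h => h6 (by simp [h]), e.orderOf_eq y ▸ h7,
    fun g hg => key g (h8 _ ?_), key y h9⟩
  have := solvable_map e.toMonoidHom hg
  rwa [MonoidHom.map_closure, Set.image_pair, map_mul, map_mul, map_inv] at this

theorem Isolated.mem [Finite G] (h : Isolated x) {H : Subgroup G} (hH : Group.IsSolvable H) (hx : x ∈ H)
    (hg : g * x * g⁻¹ ∈ H) : g ∈ normalizer (zpowers x : Set G) :=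
  mem_normalizer_zpowers.2 (h g (solvable_mono ((closure_le _).2 (Set.pair_subset hx hg)) hH))

theorem not_forall_conj_mem (hG : IsMinimalSimple G) (hx : x ≠ 1) (hy : y ≠ 1) :
    ¬ ∀ g, g * y * g⁻¹ ∈ normalizer (zpowers x : Set G) := fun h => by
  have := hG.1
  refine min_norm_ne hG (Group.isSolvable_of_comm fun a b => (inferInstance : IsMulCommutative (zpowers x)).1.1 a b)
    (mt zpowers_eq_bot.1 hx) (top_le_iff.1 ?_)
  rw [← (normalClosure_normal (s := {y})).eq_bot_or_eq_top.resolve_left fun e =>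
    hy (mem_bot.1 (e ▸ subset_normalClosure rfl))]
  refine (closure_le _).2 fun z hz => ?_
  obtain ⟨_, rfl, h1⟩ := Group.mem_conjugatesOfSet_iff.1 hz
  obtain ⟨g, rfl⟩ := isConj_iff.1 h1
  exact h g

theorem isolated_of_prime_degree {α : Type*} [MulAction G α] [FaithfulSMul G α] {p : ℕ} [hp : Fact p.Prime]
    (hα : Nat.card α = p) (hx : orderOf x = p) : Isolated x := fun g hg => by
  have := Cyc.finite_of_prime_degree (G := G) hα
  set H := Subgroup.closure {x, g * x * g⁻¹}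
  have h1 : x ∈ H := subset_closure (Or.inl rfl)
  have h2 : g * x * g⁻¹ ∈ H := subset_closure (Or.inr rfl)
  have x1 : x ≠ 1 := fun e => hp.1.one_lt.ne (by rw [← hx, e, orderOf_one])
  obtain ⟨a, ha⟩ := Perm.exists_smul_ne (α := α) x1
  obtain ⟨e, -, he⟩ := Perm.exists_zmod_equiv hα (hx ▸ pow_orderOf_eq_one x) ha
  have : IsPretransitive H α := ⟨fun b c => ⟨⟨x, h1⟩ ^ (e.symm c - e.symm b).val, by
    simpa using Perm.pow_smul_zmod he (e.symm c - e.symm b).val (e.symm b)⟩⟩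
  obtain ⟨q, hq, h3⟩ := Core.exists_pCore_inf_ne_bot (N := (⊤ : Subgroup H)) (solvable_equiv topEquiv.symm hg)
    fun e => x1 (Subtype.ext_iff.1 (show (⟨x, h1⟩ : H) = 1 from mem_bot.1 (e ▸ mem_top _)))
  rw [inf_top_eq] at h3
  have h4 := Cyc.dvd_card_of_normal hα h3
  have := Fact.mk hq
  obtain ⟨n, hn⟩ := IsPGroup.iff_card.1 (Core.pCore_isPGroup q H)
  obtain rfl := (Nat.prime_dvd_prime_iff_eq hp.1 hq).1 (hp.1.dvd_of_dvd_pow (hn ▸ h4))
  have key : ∀ z : H, orderOf z = p → zpowers z = pCore p H := fun z hz => by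
    obtain ⟨P, hP⟩ := (isPGroup_zpowers ⟨1, hz.trans (pow_one p).symm⟩).exists_le_sylow
    have h5 := Perm.card_sylow_of_prime_degree hα P
    rw [eq_of_le_of_card_ge hP (by rw [h5, Nat.card_zpowers, hz])]
    exact le_antisymm (Cyc.sylow_le_of_prime_degree hα P h3) (Core.pCore_le_sylow P)
  obtain ⟨k, hk⟩ : (⟨_, h2⟩ : H) ∈ zpowers ⟨x, h1⟩ := by
    rw [key _ ((orderOf_mk _ _).trans hx), ← key ⟨_, h2⟩ ((orderOf_mk _ _).trans ((orderOf_conj_eq g x).trans hx))]
    exact mem_zpowers _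
  exact ⟨k, congrArg Subtype.val hk⟩

theorem hasIso_L33 : HasIso PSL(3, ZMod 3) := by
  have : Fact (Nat.Prime 13) := ⟨by norm_num⟩
  obtain ⟨e⟩ := equiv_L33 (ZMod.card 3)
  let x : SL(3, ZMod 3) := ⟨!![0, 0, 1; 1, 0, 1; 0, 1, 0], by decide⟩
  let y : SL(3, ZMod 3) := ⟨!![1, 1, 1; 0, 1, 2; 0, 0, 1], by decide⟩
  have hx : orderOf (e.symm x) = 13 := (e.symm.orderOf_eq x).trans
    (orderOf_eq_prime (by decide +kernel) fun h => absurd (congrArg (· 0 0) h) (by decide))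
  refine ⟨e.symm x, e.symm y, 13, 3, 1, by norm_num, by norm_num, by norm_num, by norm_num, hx,
    fun h => by simp [h] at hx, (e.symm.orderOf_eq y).trans
      (orderOf_eq_prime (by decide +kernel) fun h => absurd (congrArg (· 0 1) h) (by decide)),
    isolated_of_prime_degree (α := ℙ (ZMod 3) (Fin 3 → ZMod 3)) ?_ hx, (3 : ℕ), ?_⟩
  · rw [Projectivization.card_of_finrank _ _ (n := 3) (by simp), Nat.card_zmod]
    rfl
  · simp only [zpow_natCast, ← map_pow, ← map_mul, ← map_inv]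
    exact congrArg _ (eq_mul_inv_of_mul_eq (by decide +kernel))

section PSL
variable {F : Type*} [Field F] [Finite F] {x : PSL(2, F)}
local notation "𝔽" => AlgebraicClosure F

theorem orderOf_dvd_of_four (hq : Odd (Nat.card F)) {V : Subgroup PSL(2, F)} (hV : IsKleinFour V)
    (hx : x ∈ normalizer (V : Set PSL(2, F))) : orderOf x ∣ 24 := by
  have h1 := orderOf_dvd_natCard _ hx
  have := Nat.odd_iff.1 hq
  rcases (by omega : (Nat.card F % 8 = 1 ∨ Nat.card F % 8 = 7) ∨ Nat.card F % 8 = 3 ∨ Nat.card F % 8 = 5) with h | h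
  · rwa [card_normalizer_four_psl_of_one_seven h hV] at h1
  · exact (card_normalizer_four_psl_of_three_five h hV ▸ h1).trans (by norm_num)

theorem isolated_torus {a b : P1 𝔽} (h : TorusPair F a b (Nat.card F + 1)) (hx : x ∈ torusL F a b) (h2 : x * x ≠ 1)
    (h3 : Odd (Nat.card F) → ¬ orderOf x ∣ 24) : Isolated x := fun g hg => by
  have h1 : x ∈ Subgroup.closure {x, g * x * g⁻¹} := subset_closure (Or.inl rfl)
  have h4 : g * x * g⁻¹ ∈ Subgroup.closure {x, g * x * g⁻¹} := subset_closure (Or.inr rfl)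
  have x1 : x ≠ 1 := fun e => h2 (by simp [e])
  rcases solvable_cases hg with ⟨z, hz⟩ | ⟨a', b', m, h', hz⟩ | ⟨h5, V, hV, hz⟩
  · exact absurd (toP_injective ((h.eq_one_of_smul_eq hx ((psl_smul_eq x z).symm.trans (hz h1))).trans (map_one _).symm)) x1
  · rw [dihL_eq_of_mem h.ne h'.ne (torusL_le_dihL _ _ hx) (hz h1) h2] at hz
    have h5 := mem_torusL_of_mul_self_ne h.ne (hz h4) (fun e => h2 (by simpa [conj_mul] using e))
    rw [← mem_normalizer_zpowers, normalizer_of_le_torusL h.ne (zpowers_le.2 hx) (mt zpowers_eq_bot.1 x1)]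
    refine mem_pairStab_of_conj_mem h.ne hx (fun e => x1 (toK_comp_toP_injective (K := 𝔽) ?_)) ?_
    · exact e.trans (map_one _).symm
    · simpa [mem_torusL, mem_torus] using h5
  · exact absurd (orderOf_dvd_of_four h5 hV (hz h1)) (h3 h5)

theorem hasIso_torus {p : ℕ} (hp : p.Prime) (h2 : p ≠ 2) (h : p ∣ Nat.card F + 1) (h3 : Odd (Nat.card F) → p ≠ 3) :
    HasIso PSL(2, F) := by
  have := Fact.mk hp
  obtain ⟨a, b, hT⟩ := exists_torusPair_nonsplit F 𝔽
  have h4 : p ∣ Nat.card (torusL F a b) := ((Nat.Prime.dvd_mul hp).1 (hT.card_torusL_mul ▸ h)).resolve_left fun e =>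
    h2 ((Nat.prime_dvd_prime_iff_eq hp Nat.prime_two).1 (e.trans (Nat.gcd_dvd_left _ _)))
  obtain ⟨⟨x, hx⟩, h5⟩ := exists_prime_orderOf_dvd_card' p h4
  rw [orderOf_mk] at h5
  obtain ⟨y, h6, h7⟩ := SetLike.not_le_iff_exists.1 hT.not_dihL_le_torusL
  refine ⟨x, y, p, 2, 1, hp, h2, Nat.prime_two, h2, by simpa, fun e => hp.one_lt.ne (by simp [← h5, e]),
    orderOf_eq_prime (by rw [sq, mul_self_dihL hT.ne h6 h7]) fun e => h7 (e ▸ one_mem _), isolated_torus hT hx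
    (fun e => h2 ((Nat.prime_dvd_prime_iff_eq hp Nat.prime_two).1 (h5 ▸ orderOf_dvd_of_pow_eq_one (sq x ▸ e))))
    fun e e' => ?_, conj_eq_inv_dihL hT.ne h6 h7 hx ▸ inv_mem (mem_zpowers x)⟩
  rw [h5, show 24 = 2 ^ 3 * 3 from rfl, hp.dvd_mul] at e'
  exact e'.elim (fun e' => h2 ((Nat.prime_dvd_prime_iff_eq hp Nat.prime_two).1 (hp.dvd_of_dvd_pow e')))
    fun e' => h3 e ((Nat.prime_dvd_prime_iff_eq hp Nat.prime_three).1 e')

theorem hasIso_unip (hp : (Nat.card F).Prime) (h5 : 5 ≤ Nat.card F) : HasIso PSL(2, F) := by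
  have := Fact.mk (CharP.char_is_prime F (ringChar F))
  have h0 := char_eq_of_card_prime (ringChar F) hp
  obtain ⟨⟨x, hx⟩, h1⟩ := ne_bot_iff_exists_ne_one.1 (unipL_ne_bot (inf : P1 F))
  replace h1 : x ≠ 1 := fun e => h1 (Subtype.ext e)
  have h1' : toP x ≠ 1 := fun e => h1 (toP_injective (e.trans (map_one _).symm))
  have h2 : orderOf x = Nat.card F := h0 ▸ orderOf_of_mem_unipL _ hx h1
  have h3 : ∀ g : PSL(2, F), g • (inf : P1 F) = inf → g * x * g⁻¹ ∈ zpowers x := fun g hg => by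
    rw [← mem_normalizer_zpowers, eq_of_le_of_card_ge (zpowers_le.2 hx) (by rw [card_unipL, Nat.card_zpowers, h2]),
      normalizer_unipL]
    exact hg
  have h4 := card_stabilizerL_mul (inf : P1 F)
  have h6 := Nat.odd_iff.1 (hp.odd_of_ne_two (by omega))
  obtain ⟨k, hk⟩ : ∃ k, Nat.card F - 1 = 2 * k := ⟨Nat.card F / 2, by omega⟩
  rw [gcd_two_eq_of_odd (Nat.odd_iff.2 h6), hk, mul_left_comm] at h4
  obtain ⟨r, hr, h7⟩ := Nat.exists_prime_and_dvd (show k ≠ 1 by omega)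
  have := Fact.mk hr
  obtain ⟨⟨y, hy⟩, h8⟩ := exists_prime_orderOf_dvd_card' r (Nat.eq_of_mul_eq_mul_left two_pos h4 ▸ h7.mul_left _)
  refine ⟨x, y, _, r, 1, hp, by omega, hr, (Nat.le_of_dvd (by omega) h7).trans_lt (by omega) |>.ne', by simpa, h1,
    (orderOf_mk _ _).symm.trans h8, fun g hg => h3 g ?_, h3 y hy⟩
  have h9 : x ∈ Subgroup.closure {x, g * x * g⁻¹} := subset_closure (Or.inl rfl)
  rcases solvable_cases hg with ⟨z, hz⟩ | ⟨a, b, m, h, hz⟩ | ⟨h5, V, hV, hz⟩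
  · obtain rfl := eq_of_mem_unip hx h1' ((psl_smul_eq x z).symm.trans (hz h9))
    have : (g * x * g⁻¹) • (inf : P1 F) = inf := hz (subset_closure (Or.inr rfl))
    rw [mul_smul, mul_smul, smul_eq_iff_eq_inv_smul] at this
    exact (inv_smul_eq_iff.1 (eq_of_mem_unip hx h1' ((psl_smul_eq x _).symm.trans this))).symm
  · refine h1.elim <| mem_bot.1 <| (torusL_inf_unipL h.ne (inf : P1 F)).le
      ⟨mem_torusL_of_mul_self_ne h.ne (hz h9) fun e => ?_, hx⟩
    have := Nat.le_of_dvd two_pos (orderOf_dvd_of_pow_eq_one (sq x ▸ e))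
    omega
  · have h10 := orderOf_dvd_of_four h5 hV (hz h9)
    rw [h2, show 24 = 2 ^ 3 * 3 from rfl, hp.dvd_mul] at h10
    rcases h10 with h | h
    · have := Nat.le_of_dvd two_pos (hp.dvd_of_dvd_pow h); omega
    · have := Nat.le_of_dvd (by norm_num) h; omega

theorem MinQ.hasIso (h : MinQ (Nat.card F)) : HasIso PSL(2, F) := by
  have h4 := h.four_le
  rcases h with ⟨r, hr, h⟩ | ⟨r, hr, h2, h⟩ | ⟨hq, h5, -⟩
  · obtain ⟨p, hp, h1⟩ := Nat.exists_prime_and_dvd (show Nat.card F + 1 ≠ 1 by omega)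
    have h2 : 2 ∣ Nat.card F := h ▸ dvd_pow_self 2 hr.ne_zero
    exact hasIso_torus hp (by rintro rfl; omega) h1 fun e => absurd (Nat.odd_iff.1 e) (by omega)
  · obtain ⟨k, h5, h6⟩ := three_pow_odd hr h2
    obtain ⟨t, ht, h8⟩ := Nat.exists_prime_and_dvd (show 6 * k + 1 ≠ 1 by omega)
    exact hasIso_torus ht (by rintro rfl; omega) (h8.trans ⟨4, by omega⟩) fun _ => by rintro rfl; omega
  · exact hasIso_unip hq h5.le

end PSL

theorem isolated_ell {F : Type*} [Field F] [Finite F] {M : Sz.Model F G} {m : ℕ} (hm : 1 ≤ m)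
    (hF : Nat.card F = 2 ^ (2 * m + 1)) (ht : ∃ t : F, t ≠ 0 ∧ t ≠ 1) (hx : M.Ell x) : Isolated x := fun g hg => by
  have := M.finite
  have h1 : x ∈ Subgroup.closure {x, g * x * g⁻¹} := subset_closure (Or.inl rfl)
  have h4 : g * x * g⁻¹ ∈ Subgroup.closure {x, g * x * g⁻¹} := subset_closure (Or.inr rfl)
  have ho : Odd (orderOf x) := M.odd_sq_add_one.of_dvd_nat hx.orderOf_dvd
  rcases M.isLocal_of_isSolvable hg with ⟨z, hz⟩ | ⟨c, hz⟩ | ⟨c, hc, hz⟩
  · exact absurd (hz h1) (hx z)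
  · have := Sz.mem_map_conj.1 (((M.isTorus_H ht).conj c).mem_of_odd (hz h1) ho)
    exact absurd (M.mem_H'.1 this).1 (by simpa using hx.conj c⁻¹ M.inf)
  · have T := hc.isTorus hm hF
    have h2 := T.mem_of_odd (hz h1) ho
    exact Sz.conj_mem_zpowers T.cyc (T.mem_normalizer h2 hx.ne_one
      (T.mem_of_odd (hz h4) (orderOf_conj_eq g x ▸ ho))) h2

theorem MinList.hasIso (h : MinList G) : HasIso G := by
  rcases h with ⟨F, _, _, h, ⟨e⟩⟩ | ⟨F, _, _, m, hm, hF, ⟨M⟩⟩ | ⟨⟨e⟩⟩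
  · exact h.hasIso.of_equiv e
  · obtain ⟨h1, ht⟩ := exists_ne_of_prime hm hF
    obtain ⟨g, -, hg, -⟩ := M.exists_tori h1 hF
    obtain ⟨x, hx, hp, -⟩ := hg.exists_prime
    have T := hx.isTorus h1 hF
    obtain ⟨y, h2, h3, h4⟩ := M.exists_sq_mem_normalizer T
    have h5 : orderOf x ≠ 2 := fun e => absurd (e ▸ M.odd_sq_add_one.of_dvd_nat hx.orderOf_dvd) (by decide)
    exact ⟨x, y, _, 2, 1, hp, h5, Nat.prime_two, h5, (pow_one _).symm, hx.ne_one, orderOf_eq_prime (sq y ▸ h3) h4,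
      isolated_ell h1 hF ht hx, Sz.conj_mem_zpowers T.cyc h2 (mem_centralizer_singleton_iff.2 rfl)⟩
  · exact hasIso_L33.of_equiv (e.trans (equiv_L33 (ZMod.card 3)).some.symm)

theorem MinList.two_dvd (h : MinList G) : 2 ∣ Nat.card G := by
  rcases h with ⟨F, _, _, -, ⟨e⟩⟩ | ⟨F, _, _, m, -, -, ⟨M⟩⟩ | ⟨⟨e⟩⟩
  · rw [Nat.card_congr e.toEquiv, dvd_card_psl Nat.prime_two]
    exact (Nat.even_mul_pred_self _).two_dvd.mul_right _
  · exact M.card_G ▸ ((M.even_card.two_dvd.pow two_ne_zero).mul_right _).mul_right _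
  · rw [Nat.card_congr e.toEquiv, card_SL33]; norm_num

end Cfsg.Lib.NG
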