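import Cfsg.Agent.Lib.NG.Md

/-! The group `2^{1+4} : S₃` of the configuration of type `M₁₂` and its extensions of degree two, as coded models.
Codes: `z = 1`, `x₀, x₁, x₂ = 2, 4, 7`, `n₀, n₁, n₂ = 8, 16, 24`, `f = 32`, `a = 96`, `d = 192`. -/

set_option autoImplicit false
set_option maxRecDepth 100000

namespace Cfsg.Lib.NG.KM

open Cfsg.Lib.Calc Subgroup

def s1 : ℕ := 0xde5688
noncomputable def k1 : ℕ → ℕ → ℕ := mX Nat.xor 8 2 1 (sT 3 8 s1)
def R1 : List (ℕ × List ℕ) := [(4, [4, 1]), (2, [2]), (1, [1])]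
theorem d1 : band (wdOK Nat.xor 8 (sT 3 8 s1 1) R1) (extOK Nat.xor 3 8 2 1 s1 (R1.map Prod.fst)) = true := by
  decide +kernel
def s2 : ℕ := 0xfecdba8967542310
noncomputable def k2 : ℕ → ℕ → ℕ := mX k1 16 2 1 (sT 4 16 s2)
def R2 : List (ℕ × List ℕ) := [(8, [8, 1]), (4, [4]), (2, [2, 1]), (1, [1])]
theorem d2 : band (wdOK k1 16 (sT 4 16 s2 1) R2) (extOK k1 4 16 2 1 s2 (R2.map Prod.fst)) = true := by
  decide +kernel
def s3 : ℕ := 0xa5672b5e306356a73d28e777af7f382146231c2052dcf6b128d6fdfef33894ed7ad23010cc729020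
noncomputable def k3 : ℕ → ℕ → ℕ := mX k2 32 3 0 (sT 5 32 s3)
def R3 : List (ℕ × List ℕ) := [(16, [8, 16]), (8, [16]), (4, [2, 4, 1]), (2, [4]), (1, [1])]
theorem d3 : band (wdOK k2 32 (sT 5 32 s3 1) R3) (extOK k2 5 32 3 0 s3 (R3.map Prod.fst)) = true := by
  decide +kernel
def s4 : ℕ := 0x6ad1bb664cd8317af1fbe74edc395ab17ae54ad429489532746890a0ab52bd6a54e851bb72fdeb56ec599b327ce952e4498916347870a0c02a50b96244c8113a70f9e346cc191a3078e142c40908143070608080
noncomputable def k4 : ℕ → ℕ → ℕ := mX k3 96 2 0 (sT 7 96 s4)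
def R4 : List (ℕ × List ℕ) := [(32, [32, 32]), (16, [8, 16, 1]), (8, [8, 1]), (4, [2, 4, 1]), (2, [2]), (1, [1])]
theorem d4 : band (wdOK k3 96 (sT 7 96 s4 1) R4) (extOK k3 7 96 2 0 s4 (R4.map Prod.fst)) = true := by
  decide +kernel
def s5 : ℕ := 0xb9b8bbbabdbcbfbeb2b3b0b1b6b7b4b5acadaeafa8a9aaaba6a7a4a5a2a3a0a199989b9a9d9c9f9e92939091969794958c8d8e8f88898a8b868784858283808179787b7a7d7c7f7e72737071767774756c6d6e6f68696a6b666764656263606158595a5b5c5d5e5f53525150575655544d4c4f4e49484b4a474645444342414038393a3b3c3d3e3f33323130373635342d2c2f2e29282b2a272625242322212018191a1b1c1d1e1f13121110171615140d0c0f0e09080b0a0706050403020100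
noncomputable def k5 (r : ℕ) : ℕ → ℕ → ℕ := mX k4 192 2 r (sT 8 192 s5)
def R5 : List (ℕ × List ℕ) := [(96, [96, 1]), (32, [32]), (16, [16, 4]), (8, [8, 2]), (4, [4]), (2, [2]), (1, [1])]
theorem d5 : allL [0, 1] (fun r => band (wdOK k4 192 (sT 8 192 s5 1) R5) (extOK k4 8 192 2 r s5 (R5.map Prod.fst))) = true := by
  decide +kernel
def GK : ℕ := 0x2a3a00002838000000000000000000002232000030204a52000000005048000000000000000000000000000000005a4200000000584000000000000000000000000000000000000000001c14181000000000040c0800000000000000000000000000000000000000000000000000000000000000000000000000000000000000000000000000000000000000000000000000000000000000a0a242400000202200008082000064600400000000000000000000000000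
def HK : ℕ := 0x1010101010101010404b5b40404b1b001010101010101010505a5a40505a1a09f9e07070707999801010101010101010101010101010101878606060606818001010101010101010101010101010101020202026b6a696803030303636261600001000101000100000101000001010001000100010001000100000100010100010000010100000100010001000100010100010000010001010000010001010001011d1c1b1a010117160101131201010f0e0d0c010101010706050403020100
def KP : List ℕ := [1, 2, 3, 4, 5, 6, 7, 96, 97, 98, 99, 104, 105, 106, 107, 128, 129, 134, 135, 152, 153, 158, 159, 160, 161, 164, 165, 176, 177, 180, 181]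
def KT : List ℕ := [12, 13, 14, 15, 18, 19, 22, 23, 26, 27, 28, 29]
def KA : ℕ → List ℕ
  | 0 => [0, 1, 2, 3, 4, 5, 6, 7, 192, 193, 194, 195, 196, 197, 198, 199]
  | _ + 1 => [0, 1, 2, 3, 12, 13, 14, 15, 288, 289, 290, 291, 300, 301, 302, 303]

theorem cK : kerOK k4 192 [96, 128, 0, 18, 98] = true := by decide +kernel

theorem cK5 : allL [0, 1] (fun r => kerOK (k5 r) 384 [96, 128, 0, 18, 98]) = true := by decide +kernel

theorem cI : allBig 192 (fun c => bimp (Nat.beq (k4 c c) 0) (bor (Nat.beq c 0) (bor (memL KP c) (memL KT c)))) = true := by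
  decide +kernel

theorem cP : allL KP (fun c => band (band (blt 0 c) (blt c 192)) (bor (blt c 8) (forceB (get 8 GK c) fun g =>
    band (blt g 192) (Nat.beq (k4 g 96) (k4 c g))))) = true := by decide +kernel

theorem cT : allL KT (fun c => band (band (blt 0 c) (blt c 192)) (forceB (get 8 GK c) fun g =>
    band (blt g 192) (Nat.beq (k4 g 12) (k4 c g)))) = true := by decide +kernel

theorem cH : allBig 192 (fun c => forceB (k4 (sqr k4 c) c) fun w =>
    band (Nat.beq (sqr k4 (sqr k4 (sqr k4 w))) 0) (Nat.beq (hv k4 w) (get 8 HK c))) = true := by decide +kernel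

theorem n1 : cnt2 KP KT (fun a b => Nat.beq (get 8 HK (k4 a b)) 1) = 240 := by decide +kernel

theorem n20 : cnt2 KP KT (fun a => guard (cm k4 a 12) fun b =>
    band (Nat.beq (get 8 HK (k4 a b)) 12) (cm k4 b 2)) = 3 := by decide +kernel

theorem n21 : cnt2 KP KT (fun a => guard (cm k4 a 12) fun b =>
    band (Nat.beq (get 8 HK (k4 a b)) 12) (bnt (cm k4 b 2))) = 0 := by decide +kernel

theorem ndP : KP.Nodup := by decide +kernel

theorem ndT : KT.Nodup := by decide +kernel

theorem F1 : allBig 192 (fun c => bimp (blt (c % 96) 32) (allL [0, 3, 4, 7] fun e =>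
    bimp (weq k4 192 [c, 96, e % 2] [96, c]) (band (bimp (weq k4 192 [c, 4] [4, c]) (band
      (bimp (weq k4 192 [c, 104, e / 2] [104, c]) (band (blt c 4) (Nat.beq e 0)))
      (bnt (weq k4 192 [c, 104, e / 2] [104, 1, c]))))
      (bnt (band (weq k4 192 [c, 4] [4, 2, c]) (weq k4 192 [c, 104, e / 2] [104, 2, c])))))) = true := by
  decide +kernel

theorem F2 : allBig 32 (fun c => bimp (band (cm k4 c 2) (cm k4 c 4)) (blt c 8)) = true := by decide +kernel

theorem F3 : allBig 192 (fun c => bimp (cm k4 c 12) (band (blt c 32) (blt (k4 c c) 2))) = true := by decide +kernel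

theorem F4 : allL KP (fun c => bimp (cm k4 c 12) (blt c 4)) = true := by decide +kernel

theorem F5 : allL KT (fun c => bimp (cm k4 c 2) (blt (k4 12 c) 4)) = true := by decide +kernel

theorem F6 : allBig 192 (fun c => bimp (band (cm k4 c 96) (cm k4 c 104)) (blt c 4)) = true := by decide +kernel

theorem F7 : allBig 192 (fun c => bimp (band (blt (c % 96) 32) (cm k4 c 2)) (anyL [0, 96] fun b => anyL [0, 104] fun b' =>
    blt (wd k4 [c, b, b']) 8)) = true := by decide +kernel

theorem F8 : allL [0, 1] (fun r => band (allL (KA r) fun c => band (band (blt c 384) (blt (c % 96) 32))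
      (band (Nat.beq (k5 r c c) 0) (cm (k5 r) c (192 + 96 * r))))
    (allBig 384 fun c => bimp (blt (c % 96) 32) (bor (memL (KA r) c) (band (bnt (cm (k5 r) c (192 + 96 * r)))
      (bimp (Nat.beq (k5 r c c) 0) (blt (cnt1 (List.range 384) fun b => band (blt (b % 96) 32)
        (band (Nat.beq (k5 r b b) 0) (cm (k5 r) b c))) 16)))))) = true := by decide +kernel

theorem ndA : ∀ r < 2, (KA r).Nodup ∧ (KA r).length = 16 := by decide +kernel

end Cfsg.Lib.NG.KM
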