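import Cfsg.Agent.Lib.NG.Real
import Cfsg.Agent.Lib.PSL2.Sub
import Cfsg.Agent.Lib.Char.Burnside

/-! Three elements of distinct prime orders with product one in the groups of Thompson's list. -/

set_option autoImplicit false

namespace Cfsg.Lib.NG

open Subgroup Matrix Cfsg.Lib.PSL2 Cfsg.Lib.Core Cfsg.Lib.Transfer
open scoped MatrixGroups

universe u

variable {G G' : Type*} [Group G] [Group G']

/-- Reduction to minimal simple groups using quotients over normal subgroups of prime power order only. -/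
theorem isSolvable_of_minimal' (P : ∀ (G : Type u) [Group G], Prop)
    (hsub : ∀ (G : Type u) [Group G] [Finite G] (H : Subgroup G), P G → P H)
    (hquo : ∀ (G : Type u) [Group G] [Finite G] (N : Subgroup G) [N.Normal] (p : ℕ), p.Prime → IsPGroup p N → P G →
      P (G ⧸ N))
    (hmin : ∀ (G : Type u) [Group G] [Finite G], IsMinimalSimple G → ¬ P G)
    (G : Type u) [Group G] [Finite G] (h : P G) : Group.IsSolvable G := by
  induction hn : Nat.card G using Nat.strong_induction_on generalizing G with | _ n ih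
  by_contra hG
  have h1 : ∀ H : Subgroup G, H ≠ ⊤ → Group.IsSolvable H := fun H hH =>
    ih _ (hn ▸ (card_lt_of_lt (lt_top_iff_ne_top.2 hH)).trans_eq card_top) H (hsub G H h) rfl
  have h2 : Nontrivial G := not_subsingleton_iff_nontrivial.1 fun _ => hG inferInstance
  refine hmin G ⟨⟨fun N hN => by_contra fun h3 => ?_⟩, fun hc => hG (isSolvable_of_isMulCommutative G), h1⟩ h
  push Not at h3
  obtain ⟨q, hq, h4⟩ := exists_pCore_inf_ne_bot (h1 N h3.2) h3.1
  refine hG (isSolvable_of_normal_quotient _ (solvable_mono inf_le_right (h1 N h3.2))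
    (ih _ ?_ _ (hquo G (pCore q G ⊓ N) q hq (pCore_isPGroup q G).to_inf_left h) rfl))
  rw [← hn, ← (pCore q G ⊓ N).card_mul_index]
  exact lt_mul_of_one_lt_left Nat.card_pos ((one_lt_card_iff_ne_bot _).2 h4)

/-- Three elements of distinct prime orders with product one. -/
def Tri (G : Type*) [Group G] : Prop := ∃ a b c : G, (orderOf a).Prime ∧ (orderOf b).Prime ∧ (orderOf c).Prime ∧
  orderOf a ≠ orderOf b ∧ orderOf b ≠ orderOf c ∧ orderOf a ≠ orderOf c ∧ a * b * c = 1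

theorem Tri.of_equiv (e : G ≃* G') (h : Tri G') : Tri G := by
  obtain ⟨a, b, c, h⟩ := h
  refine ⟨e.symm a, e.symm b, e.symm c, ?_⟩
  simp only [MulEquiv.orderOf_eq, ← map_mul, map_eq_one_iff _ e.symm.injective]
  exact h

theorem tri_psl {F : Type*} [Field F] [Finite F] {x y : PSL(2, F)} (hx : (orderOf x).Prime) (hy : (orderOf y).Prime)
    (h1 : orderOf x ≠ 2) (h2 : orderOf y ≠ 2) (h : orderOf x ≠ orderOf y) : Tri PSL(2, F) := by
  have k1 : ∀ {z : PSL(2, F)}, (orderOf z).Prime → toP z ≠ 1 := fun hz e =>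
    hz.one_lt.ne' (orderOf_eq_one_iff.2 (toP_injective (e.trans (map_one _).symm)))
  have k2 : ∀ {z : PSL(2, F)}, (orderOf z).Prime → orderOf z ≠ 2 → tau (toP z) ≠ 0 := fun hz h e =>
    h ((Nat.prime_dvd_prime_iff_eq hz Nat.prime_two).1 (orderOf_dvd_of_pow_eq_one (toP_injective
      (by rw [map_pow, (sq_eq_one_iff_tau (k1 hz)).2 e, map_one]))))
  have k3 : ∀ {z w : PSL(2, F)}, (orderOf z).Prime → orderOf z ≠ 2 → toP w ≠ 1 → tau (toP w) = tau (toP z) →
      orderOf w = orderOf z := fun hz h hw e => by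
    obtain ⟨c, hc⟩ := isConj_iff.1 (isConj_of_tau_eq (k1 hz) hw (k2 hz h) e.symm)
    rw [← orderOf_injective _ toP_injective, ← hc, orderOf_conj_eq, orderOf_injective _ toP_injective]
  have k4 : tau (toP x) ≠ tau (toP y) := fun e => h (k3 hy h2 (k1 hx) e)
  obtain ⟨X, rfl⟩ := toL_surjective x
  obtain ⟨Y, rfl⟩ := toL_surjective y
  obtain ⟨A, B, hA, hB, hC⟩ := exists_sl_traces (β := X.1.trace) (γ := Y.1.trace) fun _ e =>
    k4 ((tau_toL X).trans ((congrArg (· ^ 2) e).trans (tau_toL Y).symm))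
  have tA : tau (toP (toL A)) = 0 := by rw [tau_toL, hA, zero_pow two_ne_zero]
  have tB : tau (toP (toL B)) = tau (toP (toL X)) := by rw [tau_toL, tau_toL, hB]
  have tC : tau (toP (toL A) * toP (toL B)) = tau (toP (toL Y)) := by rw [← map_mul, ← map_mul, tau_toL, tau_toL, hC]
  have a1 : toP (toL A) ≠ 1 := fun e => k4 (by rw [← tB, ← tC, e, one_mul])
  have oA : orderOf (toL A) = 2 :=
    (orderOf_injective _ toP_injective _).symm.trans (orderOf_eq_prime ((sq_eq_one_iff_tau a1).2 tA) a1)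
  have oB := k3 hx h1 (fun e => k2 hy h2 (by rw [← tC, e, mul_one, tA])) tB
  have oC := k3 (w := toL A * toL B) hy h2 (fun e => k2 hx h1 (by
    rw [← tB, ← tau_inv, inv_eq_of_mul_eq_one_left ((map_mul _ _ _).symm.trans e), tA])) (by rwa [map_mul])
  refine ⟨toL A, toL B, (toL A * toL B)⁻¹, ?_⟩
  rw [orderOf_inv, oA, oB, oC]
  exact ⟨Nat.prime_two, hx, hy, h1.symm, h, h2.symm, mul_inv_cancel _⟩

theorem orderOf_u_mul_h {F : Type*} [Field F] [Finite F] (M : Sz.Model F G) (a b : F) {ν : Fˣ}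
    (hν : (orderOf ν).Prime) : orderOf (M.u a b * M.h ν) = orderOf ν := by
  have := Fact.mk hν
  have h1 : ∀ n : ℕ, (M.u a b * M.h ν) ^ n * (M.h ν ^ n)⁻¹ ∈ M.U := fun n => by
    induction n with
    | zero => simp
    | succ n ih =>
      convert mul_mem (M.u_mem_U a b) (M.conj_mem_U (M.h_mem_B ν) ih) using 1
      rw [pow_succ', pow_succ']; group
  have h2 : M.u a b * M.h ν ∉ M.U := fun ⟨c, d, e⟩ => hν.one_lt.ne' (orderOf_eq_one_iff.2
    (M.u_mul_h_inj (e.trans (by simp : _ = M.u c d * M.h 1))).2.2)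
  refine orderOf_eq_prime ?_ fun e => h2 (e ▸ one_mem _)
  have h3 := h1 (orderOf ν)
  rw [← map_pow, pow_orderOf_eq_one, map_one, inv_one, mul_one, ← M.Up_inf] at h3
  obtain ⟨p, h4, h5⟩ := (M.mem_Up_or_fix (mul_mem (M.u_mem_B a b) (M.h_mem_B ν))).resolve_left (M.Up_inf ▸ h2)
  by_contra h6
  refine h4 (M.eq_of_mem_Up h3 h6 ?_)
  exact (MulAction.stabilizer G p).pow_mem h5 _

theorem tri_sz {F : Type*} [Field F] [Finite F] (M : Sz.Model F G) {m : ℕ} (hm : 1 ≤ m)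
    (hF : Nat.card F = 2 ^ (2 * m + 1)) (ht : ∃ t : F, t ≠ 0 ∧ t ≠ 1) : Tri G := by
  obtain ⟨g, -, hg, -⟩ := M.exists_tori hm hF
  obtain ⟨y, hy, h1, -⟩ := hg.exists_prime
  obtain ⟨t, h0, ht⟩ := ht
  obtain ⟨r, hr, h2⟩ := Nat.exists_prime_and_dvd
    (mt orderOf_eq_one_iff.1 fun e => ht (congrArg Units.val e) : orderOf (Units.mk0 t h0) ≠ 1)
  have := Fact.mk hr
  obtain ⟨ν, rfl⟩ := exists_prime_orderOf_dvd_card' r (h2.trans (orderOf_dvd_natCard _))
  obtain ⟨x, h3, h4, -⟩ := M.exists_conj_h_of_fix_two (p := M.inf) (p' := y⁻¹ • M.inf)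
    fun e => hy _ (eq_inv_smul_iff.1 e)
  obtain ⟨a, b, μ, h5⟩ := M.mem_B'.1 (M.mem_B.2 (show (x⁻¹ * y * x * M.w) • M.inf = M.inf by
    simp only [mul_smul, M.w_smul_inf, h4, smul_inv_smul, inv_smul_eq_iff, h3]))
  have h6 : orderOf (M.h (ν⁻¹ * μ) * M.w) = 2 := orderOf_eq_prime (by rw [sq, M.h_mul_w_sq]) fun e =>
    M.w_not_mem_B (by rw [eq_inv_of_mul_eq_one_right e]; exact inv_mem (M.h_mem_B _))
  have h7 : orderOf (x⁻¹ * y * x)⁻¹ = orderOf y := by simpa only [orderOf_inv, inv_inv] using orderOf_conj_eq x⁻¹ y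
  have h8 := M.orderOf_h ν ▸ M.orderOf_h_dvd ν
  have h9 := hy.orderOf_dvd
  have h10 := M.odd_card_sub_one.of_dvd_nat h8
  refine ⟨M.u a b * M.h ν, M.h (ν⁻¹ * μ) * M.w, (x⁻¹ * y * x)⁻¹, ?_⟩
  rw [h6, h7, orderOf_u_mul_h M a b hr]
  refine ⟨hr, Nat.prime_two, h1, fun e => absurd (e ▸ h10) (by decide),
    fun e => absurd (e ▸ M.odd_sq_add_one.of_dvd_nat h9) (by decide), fun e => ?_, ?_⟩
  · obtain ⟨k, hk⟩ : ∃ k, Nat.card F = k + 1 := ⟨_, (Nat.succ_pred_eq_of_pos Nat.card_pos).symm⟩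
    rw [← e, hk, show (k + 1) ^ 2 + 1 = k * (k + 2) + 2 by ring,
      Nat.dvd_add_right (Dvd.dvd.mul_right (by simpa [hk] using h8) _)] at h9
    exact absurd ((Nat.prime_dvd_prime_iff_eq hr Nat.prime_two).1 h9 ▸ h10) (by decide)
  · rw [mul_inv_eq_one, eq_mul_inv_of_mul_eq h5, map_mul, map_inv, M.w_inv]
    group

theorem tri_L33 : Tri SL(3, ZMod 3) := by
  have : Fact (Nat.Prime 13) := ⟨by norm_num⟩
  let a : SL(3, ZMod 3) := ⟨!![0, 0, 1; 2, 2, 2; 1, 0, 0], by decide⟩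
  let x : SL(3, ZMod 3) := ⟨!![0, 0, 1; 1, 0, 1; 0, 1, 0], by decide⟩
  have h1 : orderOf a = 2 := orderOf_eq_prime (by decide +kernel) fun h => absurd (congrArg (· 0 0) h) (by decide)
  have h2 : orderOf x = 13 := orderOf_eq_prime (by decide +kernel) fun h => absurd (congrArg (· 0 0) h) (by decide)
  have h3 : orderOf (a * x) = 3 :=
    orderOf_eq_prime (by decide +kernel) fun h => absurd (congrArg (· 0 0) h) (by decide +kernel)
  refine ⟨a, x, (a * x)⁻¹, ?_⟩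
  rw [orderOf_inv, h1, h2, h3]
  exact ⟨by norm_num, by norm_num, by norm_num, by norm_num, by norm_num, by norm_num, mul_inv_cancel _⟩

theorem MinList.tri [Finite G] (h : MinList G) (hG : ¬ Group.IsSolvable G) : Tri G := by
  rcases h with ⟨F, _, _, h, ⟨e⟩⟩ | ⟨F, _, _, m, hm, hF, ⟨M⟩⟩ | ⟨⟨e⟩⟩
  · have h1 : 1 < ((Nat.card G).primeFactors.erase 2).card := by
      have := mt (Char.isSolvable_of_card_primeFactors_le_two G) hG
      have := Finset.pred_card_le_card_erase (s := (Nat.card G).primeFactors) (a := 2)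
      omega
    obtain ⟨p, hp, q, hq, h2⟩ := Finset.one_lt_card.1 h1
    simp only [Finset.mem_erase, Nat.mem_primeFactors, Nat.card_congr e.toEquiv] at hp hq
    have := Fact.mk hp.2.1
    have := Fact.mk hq.2.1
    obtain ⟨x, rfl⟩ := exists_prime_orderOf_dvd_card' p hp.2.2.1
    obtain ⟨y, rfl⟩ := exists_prime_orderOf_dvd_card' q hq.2.2.1
    exact (tri_psl hp.2.1 hq.2.1 hp.1 hq.1 h2).of_equiv e
  · exact tri_sz M (exists_ne_of_prime hm hF).1 hF (exists_ne_of_prime hm hF).2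
  · exact tri_L33.of_equiv e

theorem exists_lift_pi [Finite G] (N : Subgroup G) [N.Normal] (y : G ⧸ N) :
    ∃ x : G, (x : G ⧸ N) = y ∧ ∀ n, (orderOf y).Coprime n → (orderOf x).Coprime n := by
  obtain ⟨K, h1, h2⟩ := exists_map_eq_pi (π := {p | p ∣ orderOf y}) N (H := zpowers y)
    fun p _ h => Nat.card_zpowers y ▸ h
  obtain ⟨x, hx, rfl⟩ : y ∈ K.map (QuotientGroup.mk' N) := h2 ▸ mem_zpowers y
  exact ⟨x, rfl, fun n hn => Nat.coprime_of_dvd fun p hp h3 h4 => hp.one_lt.ne'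
    (Nat.eq_one_of_dvd_coprimes hn (isPiSubgroup_iff_orderOf.1 h1 x hx p hp h3) h4)⟩

/-- Three non-identity elements of pairwise coprime orders with product one. -/
def CTri (G : Type*) [Group G] : Prop := ∃ a b c : G, a ≠ 1 ∧ b ≠ 1 ∧ c ≠ 1 ∧ (orderOf a).Coprime (orderOf b) ∧
  (orderOf b).Coprime (orderOf c) ∧ (orderOf a).Coprime (orderOf c) ∧ a * b * c = 1

theorem Tri.ctri (h : Tri G) : CTri G := by
  obtain ⟨a, b, c, h1, h2, h3, h4, h5, h6, h7⟩ := h
  exact ⟨a, b, c, mt orderOf_eq_one_iff.2 h1.one_lt.ne', mt orderOf_eq_one_iff.2 h2.one_lt.ne',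
    mt orderOf_eq_one_iff.2 h3.one_lt.ne', (Nat.coprime_primes h1 h2).2 h4, (Nat.coprime_primes h2 h3).2 h5,
    (Nat.coprime_primes h1 h3).2 h6, h7⟩

theorem CTri.of_quotient [Finite G] {N : Subgroup G} [N.Normal] {p : ℕ} (hp : p.Prime) (hN : IsPGroup p N)
    (h : CTri (G ⧸ N)) : CTri G := by
  have key : ∀ a b c : G ⧸ N, a ≠ 1 → b ≠ 1 → c ≠ 1 → (orderOf a).Coprime (orderOf b) →
      (orderOf b).Coprime (orderOf c) → (orderOf a).Coprime (orderOf c) → a * b * c = 1 → (orderOf a).Coprime p →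
      (orderOf b).Coprime p → CTri G := fun a b c h1 h2 h3 h4 h5 h6 h7 h8 h9 => by
    obtain ⟨x, rfl, hx⟩ := exists_lift_pi N a
    obtain ⟨y, rfl, hy⟩ := exists_lift_pi N b
    obtain rfl : ((x * y)⁻¹ : G) = c := inv_eq_of_mul_eq_one_right h7
    obtain ⟨k, hk⟩ := hN ⟨(x * y)⁻¹ ^ orderOf (((x * y)⁻¹ : G) : G ⧸ N), by
      rw [← QuotientGroup.eq_one_iff, QuotientGroup.mk_pow, pow_orderOf_eq_one]⟩
    have h10 := orderOf_dvd_of_pow_eq_one ((pow_mul _ _ _).trans (congrArg Subtype.val hk))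
    exact ⟨x, y, _, fun e => h1 (e ▸ rfl), fun e => h2 (e ▸ rfl), fun e => h3 (congrArg _ e), hx _ (hy _ h4.symm).symm,
      (hy _ (h5.mul_right (h9.pow_right k))).of_dvd_right h10, (hx _ (h6.mul_right (h8.pow_right k))).of_dvd_right h10,
      mul_inv_cancel _⟩
  obtain ⟨a, b, c, h1, h2, h3, h4, h5, h6, h7⟩ := h
  have h8 : b * c * a = 1 := by rw [mul_eq_one_comm, ← mul_assoc, h7]
  by_cases ha : p ∣ orderOf a
  · exact key b c a h2 h3 h1 h5 h6.symm h4.symm h8 (h4.symm.of_dvd_right ha) (h6.symm.of_dvd_right ha)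
  by_cases hb : p ∣ orderOf b
  · exact key c a b h3 h1 h2 h6.symm h4 h5.symm (by rw [mul_assoc, mul_eq_one_comm, h7]) (h5.symm.of_dvd_right hb)
      (h4.of_dvd_right hb)
  · exact key a b c h1 h2 h3 h4 h5 h6 h7 (hp.coprime_iff_not_dvd.2 ha).symm (hp.coprime_iff_not_dvd.2 hb).symm

theorem CTri.not_solvable (h : CTri G) : ¬ Group.IsSolvable G := fun hG => by
  obtain ⟨a, b, c, h1, -, -, h4, h5, h6, h7⟩ := h
  set H := Subgroup.closure {a, b}
  have ha : a ∈ H := subset_closure (Or.inl rfl)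
  have hb : b ∈ H := subset_closure (Or.inr rfl)
  have hc : c ∈ H := eq_inv_of_mul_eq_one_right h7 ▸ inv_mem (mul_mem ha hb)
  let f := Abelianization.of (G := H)
  have h8 : f ⟨a, ha⟩ * f ⟨b, hb⟩ * f ⟨c, hc⟩ = 1 := by rw [← map_mul, ← map_mul, ← map_one f]; exact congrArg f (Subtype.ext h7)
  have k1 : ∀ {x} (hx : x ∈ H), orderOf (f ⟨x, hx⟩) ∣ orderOf x := fun hx => orderOf_mk _ hx ▸ orderOf_map_dvd f _
  have k2 : ∀ {x y z : Abelianization H} {l m n : ℕ}, orderOf x ∣ l → orderOf y ∣ m → orderOf z ∣ n → l.Coprime m →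
      l.Coprime n → x * y * z = 1 → x = 1 := fun hx hy hz e1 e2 e => by
    refine orderOf_eq_one_iff.1 (Nat.eq_one_of_dvd_coprimes (e1.mul_right e2) hx ?_)
    rw [eq_inv_of_mul_eq_one_left ((mul_assoc _ _ _).symm.trans e), orderOf_inv]
    exact (Commute.all _ _).orderOf_mul_dvd_mul_orderOf.trans (mul_dvd_mul hy hz)
  have k3 : ∀ {x} (hx : x ∈ H), f ⟨x, hx⟩ = 1 → x ∈ ⁅H, H⁆ := fun hx e => by
    rw [← map_subtype_commutator]
    exact ⟨⟨_, hx⟩, (Abelianization.ker_of H).le e, rfl⟩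
  have h9 := eq_bot_of_isSolvable_of_commutator_eq (H := H) inferInstance (le_antisymm (map_subtype_commutator H ▸ map_subtype_le _)
    ((closure_le _).2 (Set.pair_subset (k3 ha (k2 (k1 ha) (k1 hb) (k1 hc) h4 h6 h8))
      (k3 hb (k2 (k1 hb) (k1 ha) (k1 hc) h4.symm h5 (by rw [mul_comm (f ⟨b, hb⟩), h8]))))))
  exact h1 (mem_bot.1 (h9 ▸ ha))

end Cfsg.Lib.NG
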